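import Cfsg.Agent.Suz2Semi.ClassTwo
import Cfsg.Agent.Huppert3360.Main
import Cfsg.Agent.RankOne.Semilinear
import Cfsg.Agent.Fusion.Critical

/-!
Higman: a nonabelian 2-group with a solvable group of automorphisms transitive on at least two involutions is special.
-/

set_option autoImplicit false

namespace Cfsg.Agent.Suz2Semi

open Subgroup
open scoped commutatorElement

universe u

variable {P : Type u} [Group P] [Finite P]

theorem map_mem_center (y : MulAut P) {z : P} (hz : z ∈ center P) : y z ∈ center P := by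
  rw [mem_center_iff] at hz ⊢
  intro w
  obtain ⟨w, rfl⟩ := y.surjective w
  rw [← map_mul, ← map_mul, hz]

theorem central_of_transitive (hP : IsPGroup 2 P) (Y : Subgroup (MulAut P))
    (htr : ∀ x y : P, x ≠ 1 → x ^ 2 = 1 → y ≠ 1 → y ^ 2 = 1 → ∃ a ∈ Y, a x = y) (x : P) (hx : x * x = 1) :
    x ∈ center P := by
  by_cases hx1 : x = 1
  · exact hx1 ▸ one_mem _
  have : Fact (Nat.Prime 2) := ⟨Nat.prime_two⟩
  have : Nontrivial P := ⟨⟨x, 1, hx1⟩⟩
  obtain ⟨n, hn, hcard⟩ := (hP.to_subgroup (center P)).nontrivial_iff_card.mp hP.center_nontrivial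
  obtain ⟨z, hz⟩ := exists_prime_orderOf_dvd_card' (G := center P) 2 (hcard ▸ dvd_pow_self 2 hn.ne')
  rw [← Subgroup.orderOf_coe] at hz
  have hz1 : (z : P) ≠ 1 := fun h => by rw [h, orderOf_one] at hz; omega
  obtain ⟨a, -, rfl⟩ := htr z x hz1 (by rw [← hz, pow_orderOf_eq_one]) hx1 (by rw [pow_two, hx])
  exact map_mem_center a z.2

/-- The setup attached to the transitive solvable group. -/
theorem exists_setup (hP : IsPGroup 2 P) (hna : ∃ x y : P, x * y ≠ y * x)
    (htwo : ∃ x y : P, x ≠ y ∧ x ≠ 1 ∧ x ^ 2 = 1 ∧ y ≠ 1 ∧ y ^ 2 = 1) (Y : Subgroup (MulAut P))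
    (hsol : Group.IsSolvable Y)
    (htr : ∀ x y : P, x ≠ 1 → x ^ 2 = 1 → y ≠ 1 → y ^ 2 = 1 → ∃ a ∈ Y, a x = y) :
    Nonempty (Setup P) := by
  classical
  haveI : Fact (Nat.Prime 2) := ⟨Nat.prime_two⟩
  have hc := central_of_transitive hP Y htr
  let E : Subgroup P :=
    { carrier := {x | x * x = 1}
      one_mem' := mul_one 1
      mul_mem' := fun {a b} (ha : a * a = 1) (hb : b * b = 1) => by
        show a * b * (a * b) = 1
        rw [(show Commute b a from (mem_center_iff.1 (hc b hb) a).symm).mul_mul_mul_comm, ha, hb, one_mul]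
      inv_mem' := fun {a} (ha : a * a = 1) => by
        show a⁻¹ * a⁻¹ = 1
        rw [← mul_inv_rev, ha, inv_one] }
  letI : CommGroup E := { (inferInstance : Group E) with
    mul_comm := fun x y => Subtype.ext (mem_center_iff.1 (hc y y.2) x) }
  let V := Additive E
  haveI : Finite V := inferInstanceAs (Finite E)
  letI : Module (ZMod 2) V := AddCommGroup.zmodModule (n := 2) fun v =>
    Additive.toMul.injective (Subtype.ext (by
      show ((v.toMul ^ 2 : E) : P) = 1
      rw [SubgroupClass.coe_pow, pow_two]; exact v.toMul.2))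
  let ρ : Y →* (V ≃ₗ[ZMod 2] V) :=
    { toFun := fun y => LinearEquiv.ofBijective
        ((AddMonoidHom.mk' (fun v : V => Additive.ofMul (⟨(y : MulAut P) (v.toMul : P), by
            show _ * _ = _
            rw [← map_mul, v.toMul.2, map_one]⟩ : E))
          fun v w => Additive.toMul.injective (Subtype.ext (map_mul (y : MulAut P) _ _))).toZModLinearMap 2)
        (Finite.injective_iff_bijective.1 fun v w h => Additive.toMul.injective (Subtype.ext
          ((y : MulAut P).injective (congrArg (fun t : V => (t.toMul : P)) h))))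
      map_one' := LinearEquiv.ext fun v => rfl
      map_mul' := fun y y' => LinearEquiv.ext fun v => rfl }
  have hρ : ∀ (y : Y) (v : V), ((ρ y v).toMul : P) = (y : MulAut P) (v.toMul : P) := fun _ _ => rfl
  obtain ⟨p₁, p₂, hp, hp1, hp1', hp2, hp2'⟩ := htwo
  rw [pow_two] at hp1' hp2'
  haveI : Nontrivial V := ⟨⟨Additive.ofMul (⟨p₁, hp1'⟩ : E), 0,
    fun h => hp1 (congrArg (fun t : V => (t.toMul : P)) h)⟩⟩
  have hsub : ∀ {v : V}, v ≠ 0 → (v.toMul : P) ≠ 1 := fun {v} hv h =>
    hv (Additive.toMul.injective (Subtype.ext h))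
  have htrV : ∀ v w : V, v ≠ 0 → w ≠ 0 → ∃ y : Y, ρ y v = w := fun v w hv hw => by
    obtain ⟨a, ha, hvw⟩ := htr _ _ (hsub hv) (by rw [pow_two]; exact v.toMul.2) (hsub hw)
      (by rw [pow_two]; exact w.toMul.2)
    exact ⟨⟨a, ha⟩, Additive.toMul.injective (Subtype.ext hvw)⟩
  haveI := hsol
  haveI : Finite (V ≃ₗ[ZMod 2] V) := Finite.of_injective (fun g => (g : V → V)) DFunLike.coe_injective
  haveI : Group.IsSolvable ρ.range := Group.isSolvable_of_surjective ρ.rangeRestrict_surjective
  obtain ⟨n, hn⟩ : ∃ n, Nat.card V = 2 ^ n := show ∃ n, Nat.card E = 2 ^ n from IsPGroup.iff_card.1 (hP.to_subgroup E)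
  have hn2 : 2 ≤ n := by
    by_contra hlt
    have h3 : 2 < Nat.card V := by
      letI : Fintype V := Fintype.ofFinite _
      rw [Nat.card_eq_fintype_card, Fintype.two_lt_card_iff]
      exact ⟨0, Additive.ofMul (⟨p₁, hp1'⟩ : E), Additive.ofMul (⟨p₂, hp2'⟩ : E),
        fun h => hp1 (congrArg (fun t : V => (t.toMul : P)) h).symm,
        fun h => hp2 (congrArg (fun t : V => (t.toMul : P)) h).symm,
        fun h => hp (congrArg (fun t : V => (t.toMul : P)) h)⟩
    rw [hn] at h3
    interval_cases n <;> simp at h3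
  rcases Huppert3360.huppert (q := 2) (ρ := ρ.range.subtype) Subtype.val_injective (fun v w hv hw => by
      obtain ⟨y, hy⟩ := htrV v w hv hw
      exact ⟨⟨ρ y, y, rfl⟩, hy⟩) with hsemi | hexc
  swap
  · exfalso
    have he : 2 ∣ Nat.card V := hn ▸ dvd_pow_self 2 (by omega)
    simp only [Set.mem_insert_iff, Set.mem_singleton_iff] at hexc
    rcases hexc with h | h | h | h | h | h <;> rw [h] at he <;> norm_num at he
  obtain ⟨F, _, _, e, he⟩ := hsemi
  have hq : Fintype.card F = 2 ^ n := by
    rw [← Nat.card_eq_fintype_card, ← Nat.card_congr e.toEquiv, hn]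
  have hchar : ringChar F = 2 := by
    rw [FiniteField.even_card_iff_char_two, hq, ← Nat.even_iff]
    exact (Nat.even_pow' (by omega)).2 even_two
  haveI : CharP F 2 := hchar ▸ ringChar.charP F
  choose a σ ha using fun y : Y => he ⟨ρ y, y, rfl⟩
  have hay : ∀ (y : Y) (v : V), e (ρ y v) = a y * σ y (e v) := fun y v => ha y v
  have ha1 : ∀ y, a y = e (ρ y (e.symm 1)) := fun y => by rw [hay, e.apply_symm_apply, map_one, mul_one]
  have hne : ∀ y, a y ≠ 0 := fun y h0 => by
    have := ha1 y
    rw [h0, eq_comm, map_eq_zero_iff _ e.injective, LinearEquiv.map_eq_zero_iff, map_eq_zero_iff _ e.symm.injective]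
      at this
    exact one_ne_zero this
  have hmulV : ∀ y y' v, ρ (y * y') v = ρ y (ρ y' v) := fun y y' v => by rw [map_mul]; rfl
  have hamul : ∀ y y', a (y * y') = a y * σ y (a y') := fun y y' => by
    rw [ha1, hmulV, hay, ← ha1]
  have hσmul : ∀ y y', σ (y * y') = σ y * σ y' := fun y y' => RingEquiv.ext fun x => by
    refine mul_left_cancel₀ (hne (y * y')) ?_
    have h := hay (y * y') (e.symm x)
    rw [hmulV, hay, hay, e.apply_symm_apply, map_mul, ← mul_assoc, ← hamul] at h
    exact h.symm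
  let σh : Y →* (F ≃+* F) := MonoidHom.mk' σ hσmul
  set Y₀ : Subgroup Y := σh.ker with hY₀
  let ah : Y₀ →* Fˣ := MonoidHom.mk' (fun y => Units.mk0 (a y) (hne _)) fun y y' => Units.ext (by
    show a ((y : Y) * y') = a y * a y'
    rw [hamul, show σ (y : Y) = 1 from y.2]; rfl)
  obtain ⟨⟨g, hg⟩, hgen⟩ := IsCyclic.exists_generator (α := ah.range)
  obtain ⟨k, hk⟩ := id hg
  set ω : F := a (k : Y) with hω
  have hσk : ∀ x, σ (k : Y) x = x := fun x => by rw [show σ (k : Y) = 1 from k.2]; rfl
  -- the stabiliser of `1`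
  let S : Subgroup Y :=
    { carrier := {y | a y = 1}
      one_mem' := by
        show a 1 = 1
        rw [ha1, map_one]; exact e.apply_symm_apply 1
      mul_mem' := fun {y y'} (h : a y = 1) (h' : a y' = 1) => by
        show a (y * y') = 1
        rw [hamul, h, h', map_one, mul_one]
      inv_mem' := fun {y} (h : a y = 1) => by
        show a y⁻¹ = 1
        have h1 := hamul y⁻¹ y
        rw [inv_mul_cancel, h, map_one, mul_one, ha1 1, map_one] at h1
        exact h1.symm.trans (e.apply_symm_apply 1) }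
  have hsurj : ∀ x : F, x ≠ 0 → ∀ x' : F, x' ≠ 0 → ∃ y : Y, a y * σ y x = x' := fun x hx x' hx' => by
    obtain ⟨y, hy⟩ := htrV (e.symm x) (e.symm x') (by simpa using hx) (by simpa using hx')
    exact ⟨y, by rw [← e.apply_symm_apply x, ← hay, hy, e.apply_symm_apply]⟩
  have hSidx : S.index = 2 ^ n - 1 := by
    rw [← hq, ← Fintype.card_units, ← Nat.card_eq_fintype_card]
    have hwd : ∀ y y' : Y, y⁻¹ * y' ∈ S ↔ a y = a y' := fun y y' => by
      have h1 : a y' = a y * σ y (a (y⁻¹ * y')) := by rw [← hamul, mul_inv_cancel_left]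
      constructor
      · intro h
        rw [h1, show a (y⁻¹ * y') = 1 from h, map_one, mul_one]
      · intro h
        show a (y⁻¹ * y') = 1
        rw [← h] at h1
        refine (σ y).injective ?_
        rw [map_one]
        exact mul_left_cancel₀ (hne y) (by rw [mul_one, ← h1])
    let f : Y ⧸ S → Fˣ := fun t => Quotient.liftOn' t (fun y => Units.mk0 (a y) (hne y)) fun y y' h =>
      Units.ext ((hwd y y').1 (QuotientGroup.leftRel_apply.1 h))
    refine Nat.card_congr (Equiv.ofBijective f ⟨?_, ?_⟩)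
    · rintro ⟨y⟩ ⟨y'⟩ h
      exact Quotient.sound' (QuotientGroup.leftRel_apply.2 ((hwd y y').2 (congrArg Units.val h)))
    · intro u
      obtain ⟨y, hy⟩ := hsurj 1 one_ne_zero u u.ne_zero
      exact ⟨QuotientGroup.mk y, Units.ext (by rw [map_one, mul_one] at hy; exact hy)⟩
  have hd : orderOf ω = Nat.card ah.range := by
    rw [← orderOf_eq_card_of_forall_mem_zpowers hgen, Subgroup.orderOf_mk, ← hk, ← orderOf_units]; rfl
  have hbig : Big n (orderOf ω) := by
    refine ⟨hn2, ?_, ?_⟩
    · rw [hd, ← hq, ← Fintype.card_units, ← Nat.card_eq_fintype_card]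
      exact Subgroup.card_subgroup_dvd_card _
    · set K₀ : Subgroup Y := ah.ker.map Y₀.subtype with hK₀
      have hle : K₀ ≤ S := by
        rintro _ ⟨y, hy, rfl⟩
        exact congrArg Units.val (hy : ah y = 1)
      have h1 := Subgroup.index_dvd_of_le hle
      rw [hSidx] at h1
      refine h1.trans ?_
      rw [hK₀, Subgroup.index_map_subtype, Subgroup.index_ker, hd]
      refine Nat.mul_dvd_mul_left _ ?_
      rw [hY₀, Subgroup.index_ker]
      refine (Subgroup.card_subgroup_dvd_card _).trans ?_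
      letI : Algebra (ZMod 2) F := ZMod.algebra F 2
      have hnF : Module.finrank (ZMod 2) F = n := by
        have h := Module.natCard_eq_pow_finrank (K := ZMod 2) (V := F)
        rw [Nat.card_zmod, Nat.card_eq_fintype_card, hq] at h
        exact (Nat.pow_right_injective le_rfl h).symm
      rw [RankOne.card_ringAut_eq_finrank, hnF]
  let L : P → F := fun x => if hx : x * x = 1 then e (Additive.ofMul (⟨x, hx⟩ : E)) else 0
  have hL : ∀ v : V, L (v.toMul : P) = e v := fun v => (dif_pos (show (v.toMul : P) * v.toMul = 1 from v.toMul.2) :)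
  have hLy : ∀ (y : Y) (z : P), z * z = 1 → L ((y : MulAut P) z) = a y * σ y (L z) := fun y z hz => by
    have h1 := hL (Additive.ofMul (⟨z, hz⟩ : E))
    have h2 := hL (ρ y (Additive.ofMul (⟨z, hz⟩ : E)))
    rw [hρ, hay, ← h1] at h2
    exact h2
  refine ⟨{ k := ((k : Y) : MulAut P), F := F, n := n, L := L, ω := ω, fin := inferInstance, two := hP, nc := hna
            fld := ⟨hc, ?_, ?_, ?_, ?_, ⟨hq, hne _, hbig⟩⟩, twist := ?_ }⟩
  · intro x y hx hy
    have h := hL (Additive.ofMul (⟨x, hx⟩ : E) + Additive.ofMul (⟨y, hy⟩ : E))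
    refine (h.trans (map_add e _ _)).trans ?_
    rw [← hL, ← hL]; rfl
  · intro x hx
    rw [hLy _ x hx, hσk]
  · intro x hx h0
    simp only [L, dif_pos hx] at h0
    exact congrArg (fun t : V => (t.toMul : P)) ((map_eq_zero_iff _ e.injective).1 h0)
  · intro x
    exact ⟨_, (e.symm x).toMul.2, by rw [hL, e.apply_symm_apply]⟩
  · intro _ _ x x' hx hx'
    obtain ⟨y, hy⟩ := hsurj x hx x' hx'
    obtain ⟨j, -, hj⟩ := Suzuki2.exists_pow_of_ringHom hq (by omega) (σ y : F →+* F)
    exact ⟨(y : MulAut P), a y, j, hne y, by rw [← hj]; exact hy,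
      fun z hz => by rw [hLy y z hz, ← hj]; rfl⟩

/-- The centre is the commutator subgroup, the Frattini subgroup and the set of elements of order at most two. -/
theorem special (D : Setup P) :
    commutator P = frattini P ∧ frattini P = center P ∧ ∀ x : P, x ∈ center P ↔ x ^ 2 = 1 := by
  haveI : Fact (Nat.Prime 2) := ⟨Nat.prime_two⟩
  have htop := lay_center_eq_top D
  have hsq : ∀ x : P, x * x ∈ center P := fun x => ((htop ▸ mem_top x : x ∈ lay (center P))).1
  have hcm : ∀ x y : P, ⁅x, y⁆ ∈ center P := fun x y => ((htop ▸ mem_top x : x ∈ lay (center P))).2 y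
  have h1 : frattini P ≤ center P := Fusion.frattini_le_of_elementary (p := 2) _
    (by rw [_root_.commutator_def, Subgroup.commutator_le]; exact fun x _ y _ => hcm x y)
    fun x => by rw [pow_two]; exact hsq x
  haveI := D.two.isNilpotent
  have h2 : commutator P ≤ frattini P := Core.commutator_le_frattini
  have h3 : center P ≤ commutator P := by
    intro c hc
    obtain ⟨a, b, hab⟩ := D.nc
    have hab' : ⁅a, b⁆ ≠ 1 := fun h => hab (commutatorElement_eq_one_iff_mul_comm.1 h)
    have hC : KInv D.k (commutator P ⊓ center P) := KInv.inf (fun x hx => by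
      have hk : (commutator P).map D.k.toMonoidHom = commutator P := by
        rw [_root_.commutator_def, map_commutator, map_top_of_surjective _ D.k.surjective]
      exact hk ▸ mem_map_of_mem _ hx) (kInv_center D)
    obtain ⟨z, hz, hzc⟩ := surj_of_invariant (D := D) id (commutator P ⊓ center P) hC (fun z hz => hz.2)
      (fun _ _ _ _ => rfl) (fun _ _ => rfl)
      ⟨⁅a, b⁆, ⟨commutator_mem_commutator (mem_top a) (mem_top b), hcm a b⟩, hab'⟩ c hc
    exact hzc ▸ hz.1
  refine ⟨le_antisymm h2 (h1.trans h3), le_antisymm h1 (h3.trans h2), fun x => ⟨fun hx => ?_, fun hx => ?_⟩⟩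
  · rw [pow_two]; exact D.center_exp x hx
  · exact D.inv_center x (by rw [← pow_two]; exact hx)

end Cfsg.Agent.Suz2Semi
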