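import Cfsg.Agent.Suzuki2.FieldLemmas

/-!
Congruences between sums of two powers of two modulo a divisor of `2 ^ n - 1` of index dividing `n`.
-/

set_option autoImplicit false

namespace Cfsg.Agent.Suz2Semi

open Cfsg.Agent.Suzuki2

/-- A divisor `d` of `2 ^ n - 1` whose index divides `n`. -/
structure Big (n d : ℕ) : Prop where
  two_le : 2 ≤ n
  dvd : d ∣ 2 ^ n - 1
  dvd_mul : 2 ^ n - 1 ∣ d * n

theorem lin_lt_two_pow : ∀ t : ℕ, 5 ≤ t → 4 * t + 4 < 2 ^ t := by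
  intro t ht
  induction t, ht using Nat.le_induction with
  | base => norm_num
  | succ t ht ih => rw [pow_succ]; omega

theorem small_cases : ∀ n < 21, 7 ≤ n → ∀ m < n + 1, m ∣ n → m ∣ 2 ^ n - 1 → m < 2 ^ ((n + 3) / 4 - 1) := by
  decide +kernel

theorem exists_rot {n q : ℕ} (hn : 0 < n) (hq : 1 ≤ q) (hq4 : 4 * (q - 1) < n) (hqn : q ≤ n) (a b c e : ℕ) :
    ∃ r, (a + r) % n ≤ n - q ∧ (b + r) % n ≤ n - q ∧ (c + r) % n ≤ n - q ∧ (e + r) % n ≤ n - q := by
  classical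
  let bad : ℕ → Finset ℕ := fun x => (Finset.range n).filter fun r => n - q < (x + r) % n
  have hcard : ∀ x, (bad x).card ≤ q - 1 := by
    intro x
    calc (bad x).card ≤ (Finset.Ioo (n - q) n).card :=
          Finset.card_le_card_of_injOn (fun r => (x + r) % n)
            (fun r hr => by
              simp only [bad, Finset.coe_filter, Finset.mem_range, Set.mem_setOf_eq] at hr
              simp only [Finset.coe_Ioo, Set.mem_Ioo]
              exact ⟨hr.2, Nat.mod_lt _ hn⟩)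
            (fun r hr s hs h => by
              simp only [bad, Finset.coe_filter, Finset.mem_range, Set.mem_setOf_eq] at hr hs
              have := Nat.ModEq.add_left_cancel' x (show x + r ≡ x + s [MOD n] from h)
              rwa [Nat.ModEq, Nat.mod_eq_of_lt hr.1, Nat.mod_eq_of_lt hs.1] at this)
      _ = q - 1 := by rw [Nat.card_Ioo]; omega
  have hlt : (bad a ∪ bad b ∪ (bad c ∪ bad e)).card < (Finset.range n).card := by
    have h1 := Finset.card_union_le (bad a ∪ bad b) (bad c ∪ bad e)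
    have h2 := Finset.card_union_le (bad a) (bad b)
    have h3 := Finset.card_union_le (bad c) (bad e)
    have := hcard a; have := hcard b; have := hcard c; have := hcard e
    rw [Finset.card_range]
    omega
  obtain ⟨r, hr, hnot⟩ := Finset.exists_mem_notMem_of_card_lt_card hlt
  simp only [bad, Finset.mem_union, Finset.mem_filter, hr, true_and, not_or, not_lt] at hnot
  exact ⟨r, hnot.1.1, hnot.1.2, hnot.2.1, hnot.2.2⟩

theorem rot_modEq {n x y M : ℕ} (hn : 0 < n) (hM : M ∣ 2 ^ n - 1) (r : ℕ) :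
    (2 ^ x + 2 ^ y) * 2 ^ r ≡ 2 ^ ((x + r) % n) + 2 ^ ((y + r) % n) [MOD M] := by
  rw [add_mul, ← pow_add, ← pow_add]
  exact ((pow_mod_eq rfl hn _).of_dvd hM).add ((pow_mod_eq rfl hn _).of_dvd hM)

theorem Big.pos {n d : ℕ} (h : Big n d) : 0 < d := by
  have := Nat.pow_le_pow_right (n := 2) two_pos h.two_le
  exact Nat.pos_of_dvd_of_pos h.dvd (by omega)

theorem Big.index {n d : ℕ} (h : Big n d) : ∃ m, d * m = 2 ^ n - 1 ∧ m ∣ n ∧ m ∣ 2 ^ n - 1 := by
  obtain ⟨m, hm⟩ := h.dvd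
  exact ⟨m, hm.symm, Nat.dvd_of_mul_dvd_mul_left h.pos (hm ▸ h.dvd_mul), Dvd.intro_left d hm.symm⟩

theorem eq_top_of_index {n m : ℕ} (hn : n < 6) (hm : m ∣ n) (hm' : m ∣ 2 ^ n - 1) (h2 : 2 ≤ n) : m = 1 := by
  have key : ∀ n < 6, 2 ≤ n → ∀ m < n + 1, m ∣ n → m ∣ 2 ^ n - 1 → m = 1 := by decide +kernel
  exact key n hn h2 m (Nat.lt_succ_of_le (Nat.le_of_dvd (by omega) hm)) hm hm'

/-- Outside `n = 6` the congruence lifts. -/
theorem Big.lift {n d : ℕ} (h : Big n d) (h6 : n ≠ 6) (a b c e : ℕ)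
    (he : 2 ^ a + 2 ^ b ≡ 2 ^ c + 2 ^ e [MOD d]) : 2 ^ a + 2 ^ b ≡ 2 ^ c + 2 ^ e [MOD 2 ^ n - 1] := by
  obtain ⟨m, hm, hmn, hmM⟩ := h.index
  have hn : 0 < n := by have := h.two_le; omega
  rcases Nat.lt_or_ge n 6 with h5 | h7
  · rw [eq_top_of_index h5 hmn hmM h.two_le, mul_one] at hm
    exact hm ▸ he
  have h7 : 7 ≤ n := by omega
  have hmb : m < 2 ^ ((n + 3) / 4 - 1) := by
    have hle : m ≤ n := Nat.le_of_dvd hn hmn
    rcases Nat.lt_or_ge n 21 with h20 | h21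
    · exact small_cases n h20 h7 m (by omega) hmn hmM
    · have := lin_lt_two_pow ((n + 3) / 4 - 1) (by omega)
      omega
  set q := (n + 3) / 4 with hq
  obtain ⟨r, ha, hb, hc, he'⟩ := exists_rot hn (by omega) (by omega) (by omega : q ≤ n) a b c e
  have hX : ∀ u v, u ≤ n - q → v ≤ n - q → 2 ^ u + 2 ^ v ≤ d := by
    intro u v hu hv
    have h1 := Nat.pow_le_pow_right (n := 2) two_pos hu
    have h2 := Nat.pow_le_pow_right (n := 2) two_pos hv
    by_contra hlt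
    have h3 : d + 1 ≤ 2 * 2 ^ (n - q) := by omega
    have h4 : (d + 1) * m ≤ (2 * 2 ^ (n - q)) * (2 ^ (q - 1) - 1) := Nat.mul_le_mul h3 (by omega)
    have h5 : 2 * 2 ^ (n - q) * 2 ^ (q - 1) = 2 ^ n := by
      rw [← pow_succ', ← pow_add]; congr 1; omega
    rw [Nat.mul_sub, mul_one, h5, add_mul, one_mul, hm] at h4
    have : 0 < m := Nat.pos_of_dvd_of_pos hmn hn
    have := Nat.two_pow_pos (n - q)
    have := Nat.two_pow_pos n
    omega
  have h1 := ((rot_modEq hn h.dvd r).symm.trans (he.mul_right (2 ^ r))).trans (rot_modEq hn h.dvd r)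
  have h2 := eq_of_modEq_range h1 (by have := Nat.two_pow_pos ((a + r) % n); have := Nat.two_pow_pos ((b + r) % n); omega) (hX _ _ ha hb)
    (by have := Nat.two_pow_pos ((c + r) % n); have := Nat.two_pow_pos ((e + r) % n); omega) (hX _ _ hc he')
  have h3 : (2 ^ a + 2 ^ b) * 2 ^ r ≡ (2 ^ c + 2 ^ e) * 2 ^ r [MOD 2 ^ n - 1] :=
    (rot_modEq hn dvd_rfl r).trans (h2 ▸ (rot_modEq hn dvd_rfl r).symm)
  refine Nat.ModEq.cancel_right_of_coprime ?_ h3
  refine Nat.Coprime.pow_right r ((Nat.coprime_two_right).2 ?_)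
  exact Nat.Even.sub_odd Nat.one_le_two_pow ((Nat.even_pow' hn.ne').2 even_two) odd_one

theorem six_facts {d : ℕ} (hd : d ∣ 63) (h : 63 ∣ d * 6) :
    (∀ i < 6, ∀ j < 6, 2 ^ i % d = 2 ^ j % d → i = j) ∧
    (∀ i < 6, ∀ j < 6, ∀ i' < 6, i = 0 ∨ i' = 0 ∨ i = i' ∨
      (2 ^ j + 2 ^ i') % d ≠ (1 + 2 ^ ((i + j) % 6)) % d) ∧
    (∀ i < 6, i ≠ 0 → (2 ^ ((i + 1) % 6) + 2 ^ i) % d = (1 + 2 ^ ((i + i + 1) % 6)) % d →
      i = 5 ∨ d = 21 ∧ (i = 2 ∨ i = 3)) := by
  have key : ∀ d < 64, d ∣ 63 → 63 ∣ d * 6 → d = 21 ∨ d = 63 := by decide +kernel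
  rcases key d (Nat.lt_succ_of_le (Nat.le_of_dvd (by norm_num) hd)) hd h with rfl | rfl <;>
    refine ⟨?_, ?_, ?_⟩ <;> decide +kernel

/-- Distinct powers of two stay distinct. -/
theorem Big.inj {n d : ℕ} (h : Big n d) {i j : ℕ} (hi : i < n) (hj : j < n) (he : 2 ^ i ≡ 2 ^ j [MOD d]) :
    i = j := by
  have hn : 0 < n := by omega
  by_cases h6 : n = 6
  · subst h6; exact (six_facts h.dvd h.dvd_mul).1 i hi j hj he
  have h1 := h.lift h6 i i j j (he.add he)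
  rw [← two_mul, ← two_mul] at h1
  have h2 := Nat.ModEq.cancel_left_of_coprime ((Nat.coprime_two_right).2
    (Nat.Even.sub_odd Nat.one_le_two_pow ((Nat.even_pow' hn.ne').2 even_two) odd_one)) h1
  have hp : ∀ x, x < n → 1 ≤ 2 ^ x ∧ 2 ^ x ≤ 2 ^ n - 1 := fun x hx => by
    have := Nat.pow_lt_pow_right (a := 2) one_lt_two hx
    exact ⟨Nat.one_le_two_pow, by omega⟩
  exact Nat.pow_right_injective le_rfl (eq_of_modEq_range h2 (hp i hi).1 (hp i hi).2 (hp j hj).1 (hp j hj).2)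

/-- Conjugate exponents are equal. -/
theorem Big.conj_eq {n d : ℕ} (h : Big n d) {i i' j : ℕ} (hi : i < n) (hi0 : i ≠ 0) (hi' : i' < n) (hi'0 : i' ≠ 0)
    (he : 2 ^ j + 2 ^ i' ≡ 1 + 2 ^ (i + j) [MOD d]) : i = i' := by
  have hn : 0 < n := by omega
  have he' : 2 ^ (j % n) + 2 ^ i' ≡ 1 + 2 ^ ((i + j) % n) [MOD d] :=
    (((pow_mod_eq rfl hn j).of_dvd h.dvd).symm.add_right _).trans
      (he.trans (((pow_mod_eq rfl hn (i + j)).of_dvd h.dvd).add_left 1))
  by_cases h6 : n = 6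
  · subst h6
    rcases (six_facts h.dvd h.dvd_mul).2.1 i hi (j % 6) (Nat.mod_lt _ hn) i' hi' with h1 | h1 | h1 | h1
    · exact absurd h1 hi0
    · exact absurd h1 hi'0
    · exact h1
    · exact absurd (by rw [Nat.add_mod_mod]; exact he') h1
  have h' := h.lift h6 (j % n) i' 0 ((i + j) % n) (by simpa using he')
  have hjn := Nat.mod_lt j hn
  have hrn := Nat.mod_lt (i + j) hn
  by_cases hji : j % n = i'
  · by_cases hr : (i + j) % n = 0
    · rw [hr, hji, ← two_mul, ← two_mul] at h'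
      have h2 := Nat.ModEq.cancel_left_of_coprime ((Nat.coprime_two_right).2
        (Nat.Even.sub_odd Nat.one_le_two_pow ((Nat.even_pow' hn.ne').2 even_two) odd_one)) h'
      exact absurd (h.inj hi' hn (h2.of_dvd h.dvd)) hi'0
    · rw [hji, ← two_mul, ← pow_succ'] at h'
      exact absurd h'.symm (not_modEq_single hn hrn (Ne.symm hr))
  · by_cases hr : (i + j) % n = 0
    · rw [hr, ← two_mul, ← pow_succ'] at h'
      exact absurd h' (not_modEq_single hjn hi' hji)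
    · rcases pair_eq hjn hi' hji hn hrn (Ne.symm hr) h' with ⟨h1, h2⟩ | ⟨-, h2⟩
      · rw [h2, Nat.add_mod, h1, add_zero, Nat.mod_mod, Nat.mod_eq_of_lt hi]
      · exact absurd h2 hi'0

/-- The equation of the sections. -/
theorem Big.rigid_eq {n d : ℕ} (h : Big n d) {i : ℕ} (hi : i < n) (hi0 : i ≠ 0)
    (he : 2 ^ (i + 1) + 2 ^ i ≡ 1 + 2 ^ (i + i + 1) [MOD d]) :
    i + 1 = n ∨ n = 6 ∧ d = 21 ∧ (i = 2 ∨ i = 3) := by
  have hn : 0 < n := by omega
  have he' : 2 ^ ((i + 1) % n) + 2 ^ i ≡ 1 + 2 ^ ((i + i + 1) % n) [MOD d] :=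
    (((pow_mod_eq rfl hn (i + 1)).of_dvd h.dvd).symm.add_right _).trans
      (he.trans (((pow_mod_eq rfl hn (i + i + 1)).of_dvd h.dvd).add_left 1))
  by_cases h6 : n = 6
  · subst h6
    rcases (six_facts h.dvd h.dvd_mul).2.2 i hi hi0 he' with h5 | h5
    · exact Or.inl (by omega)
    · exact Or.inr ⟨rfl, h5⟩
  have h' := h.lift h6 ((i + 1) % n) i 0 ((i + i + 1) % n) (by simpa using he')
  have ha := Nat.mod_lt (i + 1) hn
  have hc := Nat.mod_lt (i + i + 1) hn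
  rcases Nat.lt_or_ge (i + 1) n with hlt | hge
  swap
  · exact Or.inl (by omega)
  rw [Nat.mod_eq_of_lt hlt] at h'
  by_cases hc0 : (i + i + 1) % n = 0
  · rw [hc0, ← two_mul, ← pow_succ'] at h'
    exact absurd h' (not_modEq_single hlt hi (by omega))
  · rcases pair_eq hlt hi (by omega) hn hc (Ne.symm hc0) h' with ⟨h4, -⟩ | ⟨-, h4⟩ <;> omega

end Cfsg.Agent.Suz2Semi
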