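import Cfsg.Agent.Suz2Semi.Center
import Cfsg.Agent.Core.Solvable

/-!
A nonabelian 2-group with central involutions and an automorphism acting on them with large order.
-/

set_option autoImplicit false

namespace Cfsg.Agent.Suz2Semi

open Subgroup
open scoped commutatorElement

universe u

/-- The standing hypotheses; `twist` is used in degree six only. -/
structure Setup (P : Type u) [Group P] where
  k : MulAut P
  F : Type
  [field : Field F]
  [fintype : Fintype F]
  [charTwo : CharP F 2]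
  n : ℕ
  L : P → F
  ω : F
  fin : Finite P
  two : IsPGroup 2 P
  nc : ∃ x y : P, x * y ≠ y * x
  fld : Fld k F n L ω
  twist : n = 6 → orderOf ω = 21 → ∀ x x' : F, x ≠ 0 → x' ≠ 0 → ∃ (y : MulAut P) (a : F) (j : ℕ),
    a ≠ 0 ∧ a * x ^ 2 ^ j = x' ∧ ∀ z : P, z * z = 1 → L (y z) = a * L z ^ 2 ^ j

attribute [instance] Setup.field Setup.fintype Setup.charTwo

variable {P : Type u} [Group P] (D : Setup P)

theorem Setup.inv_center (D : Setup P) : ∀ x : P, x * x = 1 → x ∈ center P := D.fld.central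

theorem Setup.center_exp (D : Setup P) : ∀ z ∈ center P, z * z = 1 :=
  haveI := D.fin
  center_exp_aux (Nat.card P) le_rfl D.two D.k D.L D.fld D.nc

theorem fpf {x : P} (hx : D.k x = x) : x = 1 :=
  haveI := D.fin
  D.fld.fpf D.two hx

theorem kInv_center : KInv D.k (center P) := fun x hx => by
  rw [mem_center_iff] at hx ⊢
  intro g
  obtain ⟨g, rfl⟩ := D.k.surjective g
  rw [← map_mul, ← map_mul, hx]

theorem kInv_top : KInv D.k (⊤ : Subgroup P) := fun _ _ => mem_top _

theorem KInv.inf {k : MulAut P} {H H' : Subgroup P} (h : KInv k H) (h' : KInv k H') : KInv k (H ⊓ H') :=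
  fun x hx => ⟨h x hx.1, h' x hx.2⟩

theorem KInv.surj [Finite P] {k : MulAut P} {H : Subgroup P} (hH : KInv k H) {y : P} (hy : y ∈ H) :
    ∃ x ∈ H, k x = y := by
  obtain ⟨⟨x, hx⟩, hxy⟩ := (Finite.injective_iff_surjective (f := fun x : H => (⟨k x, hH x x.2⟩ : H))).1
    (fun a b h => Subtype.ext (k.injective (congrArg Subtype.val h))) ⟨y, hy⟩
  exact ⟨x, hx, congrArg Subtype.val hxy⟩

theorem KInv.centralizer [Finite P] {k : MulAut P} {H : Subgroup P} (hH : KInv k H) :
    KInv k (Subgroup.centralizer (H : Set P)) :=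
  fun x hx => Subgroup.mem_centralizer_iff.2 fun y hy => by
    obtain ⟨y', hy', rfl⟩ := hH.surj hy
    rw [← map_mul, ← map_mul, Subgroup.mem_centralizer_iff.1 hx y' hy']

theorem exists_twisted {H : Subgroup P} (hH : KInv D.k H) {w : P} (hw : w ∈ H) :
    ∃ v ∈ H, D.k v * v⁻¹ = w :=
  haveI := D.fin
  D.fld.exists_twisted D.two hH hw

theorem eq_zero_of_invariant {H : Subgroup P} (hH : KInv D.k H) {M : Type*} [AddCommGroup M] (φ : P → M)
    (hmul : ∀ a ∈ H, ∀ b ∈ H, φ (a * b) = φ a + φ b) (hinv : ∀ a ∈ H, φ (D.k a) = φ a) {w : P} (hw : w ∈ H) :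
    φ w = 0 :=
  haveI := D.fin
  D.fld.eq_zero_of_invariant D.two hH φ hmul hinv hw

variable {D}

/-- The centre is the image of any nontrivial invariant homomorphism into it. -/
theorem surj_of_invariant (φ : P → P) (H : Subgroup P) (hH : KInv D.k H) (hφ : ∀ z ∈ H, φ z ∈ center P)
    (hmul : ∀ z ∈ H, ∀ z' ∈ H, φ (z * z') = φ z * φ z')
    (hk : ∀ z ∈ H, φ (D.k z) = D.k (φ z)) (hne : ∃ z ∈ H, φ z ≠ 1) :
    ∀ e ∈ center P, ∃ z ∈ H, φ z = e := fun e he =>
  D.fld.surj_of H hH φ (fun z hz => D.center_exp _ (hφ z hz)) hmul hk hne e (D.center_exp e he)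

/-- An alternating equivariant biadditive map on the centre is trivial. -/
theorem alt_trivial (f : P → P → P) (hf : ∀ x ∈ center P, ∀ y ∈ center P, f x y ∈ center P)
    (hl : ∀ x ∈ center P, ∀ x' ∈ center P, ∀ y ∈ center P, f (x * x') y = f x y * f x' y)
    (hr : ∀ x ∈ center P, ∀ y ∈ center P, ∀ y' ∈ center P, f x (y * y') = f x y * f x y')
    (halt : ∀ x ∈ center P, f x x = 1)
    (heq : ∀ x ∈ center P, ∀ y ∈ center P, f (D.k x) (D.k y) = D.k (f x y))
    {x y : P} (hx : x ∈ center P) (hy : y ∈ center P) : f x y = 1 :=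
  have hc := D.inv_center
  D.fld.alt_trivial f (fun x y hx hy => D.center_exp _ (hf x (hc x hx) y (hc y hy)))
    (fun x x' y hx hx' hy => hl x (hc x hx) x' (hc x' hx') y (hc y hy))
    (fun x y y' hx hy hy' => hr x (hc x hx) y (hc y hy) y' (hc y' hy'))
    (fun x hx => halt x (hc x hx)) (fun x y hx hy => heq x (hc x hx) y (hc y hy))
    (D.center_exp x hx) (D.center_exp y hy)

end Cfsg.Agent.Suz2Semi
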