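import Cfsg.Agent.Suz2Semi.Fld

/-!
The centre has exponent two.
-/

set_option autoImplicit false

namespace Cfsg.Agent.Suz2Semi

open Subgroup
open scoped commutatorElement
open Cfsg.Agent.RankOne (comm_mul_left_of_central comm_mul_right_of_central exists_invol_mod)

universe u

/-- Higman: the centre has exponent two. -/
theorem center_exp_aux {F : Type} [Field F] [Fintype F] [CharP F 2] {n₀ : ℕ} {ω : F} :
    ∀ (n : ℕ) {P : Type u} [Group P] [Finite P], Nat.card P ≤ n → IsPGroup 2 P →
      ∀ (ρ : MulAut P) (L : P → F), Fld ρ F n₀ L ω →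
          (∃ x y : P, x * y ≠ y * x) → ∀ z ∈ center P, z * z = 1 := by
  intro n
  induction n with
  | zero => intro P _ _ h; exact absurd h (by have := Nat.card_pos (α := P); omega)
  | succ n ih =>
    intro P _ _ hcard hP ρ L hF hnc z₁ hz₁
    by_contra hz₁2
    have hEc : ∀ x : P, x * x = 1 → x ∈ center P := hF.central
    have rho_center : ∀ {z : P}, z ∈ center P → ρ z ∈ center P := fun {z} hz => by
      rw [mem_center_iff] at hz ⊢
      intro w
      obtain ⟨w, rfl⟩ := ρ.surjective w
      rw [← map_mul, ← map_mul, hz]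
    have hex : ∃ m : ℕ, ∀ z ∈ center P, z ^ (2 ^ m) = 1 := by
      obtain ⟨m, hm⟩ := IsPGroup.iff_card (p := 2).mp hP
      exact ⟨m, fun z _ => by rw [← hm]; exact pow_card_eq_one'⟩
    classical
    obtain ⟨e, he, hmin⟩ : ∃ e, (∀ z ∈ center P, z ^ (2 ^ e) = 1) ∧
        ∀ m < e, ¬ ∀ z ∈ center P, z ^ (2 ^ m) = 1 :=
      ⟨Nat.find hex, Nat.find_spec hex, fun m hm => Nat.find_min hex hm⟩
    have he2 : 2 ≤ e := by
      by_contra h
      apply hz₁2
      rcases Nat.le_one_iff_eq_zero_or_eq_one.mp (by omega : e ≤ 1) with rfl | rfl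
      · have := he z₁ hz₁; rw [pow_zero, pow_one] at this; rw [this, mul_one]
      · have := he z₁ hz₁; rwa [pow_one, pow_two] at this
    obtain ⟨f, rfl⟩ : ∃ f, e = f + 2 := ⟨e - 2, by omega⟩
    obtain ⟨w₁, hw₁, hw₁ne⟩ : ∃ w ∈ center P, w ^ (2 ^ (f + 1)) ≠ 1 := by
      have h := hmin (f + 1) (by omega)
      push Not at h
      exact h
    -- squares of the centre
    have hroot : ∀ j ≤ f + 1, ∀ z ∈ center P, z ^ (2 ^ j) = 1 → ∃ w ∈ center P, w * w = z := by
      intro j
      induction j with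
      | zero =>
        intro _ z _ h
        exact ⟨1, one_mem _, by rw [pow_zero, pow_one] at h; rw [h, mul_one]⟩
      | succ j ihj =>
        intro hj z hz h
        by_cases h1 : z ^ (2 ^ j) = 1
        · exact ihj (by omega) z hz h1
        have hx2 : z ^ (2 ^ j) * z ^ (2 ^ j) = 1 := by rw [← pow_add, ← two_mul, ← pow_succ', h]
        have hw2 : w₁ ^ (2 ^ (f + 1)) * w₁ ^ (2 ^ (f + 1)) = 1 := by
          rw [← pow_add, ← two_mul, ← pow_succ']; exact he w₁ hw₁
        obtain ⟨w', hw'c, hk⟩ := hF.surj_of (center P) (fun z hz => rho_center hz)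
          (fun z => z ^ (2 ^ (f + 1)))
          (fun z hz => by rw [← pow_add, ← two_mul, ← pow_succ']; exact he z hz)
          (fun z _ z' hz' => (show Commute z z' from mem_center_iff.mp hz' z).mul_pow _)
          (fun z _ => (map_pow ρ z _).symm) ⟨w₁, hw₁, hw₁ne⟩ _ hx2
        obtain ⟨i, hi⟩ : ∃ i, f + 1 = (j + 1) + i := ⟨f + 1 - (j + 1), by omega⟩
        set v := w' ^ (2 ^ i) with hv
        have hvc : v ∈ center P := pow_mem hw'c _
        have hvz : (v * v) ^ (2 ^ j) = z ^ (2 ^ j) := by
          rw [← hk, hv, ← pow_two, ← pow_mul, ← pow_mul]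
          congr 1
          rw [hi, pow_add, pow_succ]
          ring
        obtain ⟨w, hw, hww⟩ := ihj (by omega) (z * (v * v)⁻¹)
          (mul_mem hz (inv_mem (mul_mem hvc hvc)))
          (by
            rw [(show Commute z (v * v)⁻¹ from
              mem_center_iff.mp (inv_mem (mul_mem hvc hvc)) z).mul_pow, inv_pow, hvz, mul_inv_cancel])
        refine ⟨w * v, mul_mem hw hvc, ?_⟩
        rw [mul_assoc w v, ← mul_assoc v w, mem_center_iff.mp hw v, mul_assoc w v v, ← mul_assoc,
          hww, inv_mul_cancel_right]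
    -- lemma A
    have hA : ∀ y : P, y * y ∈ center P → (y * y) ^ (2 ^ (f + 1)) = 1 → y ∈ center P := by
      intro y hy h
      obtain ⟨w, hw, hww⟩ := hroot (f + 1) le_rfl _ hy h
      have hyw : y * w⁻¹ * (y * w⁻¹) = 1 := by
        have hc : Commute y w⁻¹ := mem_center_iff.mp (inv_mem hw) y
        rw [← pow_two, hc.mul_pow, pow_two, pow_two, ← mul_inv_rev, hww, mul_inv_cancel]
      have := mul_mem (hEc _ hyw) hw
      rwa [inv_mul_cancel_right] at this
    let φ : P → P := fun y => y ^ (2 ^ (f + 2))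
    have hφ2 : ∀ y : P, φ y = (y * y) ^ (2 ^ (f + 1)) := fun y => by
      simp only [φ]
      rw [← pow_two, ← pow_mul, ← pow_succ']
    have hφZ : ∀ z ∈ center P, φ z = 1 := he
    have hφsq : ∀ y, y * y ∈ center P → φ y * φ y = 1 := fun y hy => by
      rw [hφ2, ← pow_add, ← two_mul, ← pow_succ']
      exact he _ hy
    have hρcomm : ∀ (a b : P), ρ ⁅a, b⁆ = ⁅ρ a, ρ b⁆ := fun a b =>
      map_commutatorElement ρ.toMonoidHom a b
    have hcen : ∀ {c : P}, c ∈ center P → ∀ w, Commute c w := fun hc w =>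
      (mem_center_iff.mp hc w).symm
    -- the subgroup `T`
    let T : Subgroup P :=
      { carrier := {y | y * y ∈ center P ∧ ∀ w : P, ⁅y, w⁆ ∈ center P}
        one_mem' := ⟨by rw [one_mul]; exact one_mem _, fun w => by
          rw [commutatorElement_one_left]; exact one_mem _⟩
        mul_mem' := fun {a b} ha hb => ⟨by
            have e : a * b * (a * b) = ⁅b, a⁆ * (a * a) * (b * b) := by
              have h : b * a = ⁅b, a⁆ * (a * b) := by
                simp only [commutatorElement_def, mul_assoc, inv_mul_cancel_left, inv_mul_cancel,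
                  mul_one]
              calc a * b * (a * b) = a * (b * a) * b := by simp only [mul_assoc]
                _ = a * (⁅b, a⁆ * (a * b)) * b := by rw [h]
                _ = ⁅b, a⁆ * a * (a * b) * b := by
                  rw [← mul_assoc a, (hcen (hb.2 a) a).symm.eq]
                _ = _ := by simp only [mul_assoc]
            rw [e]
            exact mul_mem (mul_mem (hb.2 a) ha.1) hb.1,
          fun w => by rw [comm_mul_left_of_central (hb.2 w)]; exact mul_mem (ha.2 w) (hb.2 w)⟩
        inv_mem' := fun {a} ha => ⟨by rw [← mul_inv_rev]; exact inv_mem ha.1, fun w => by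
          have h := comm_mul_right_of_central (y := w) (w := a⁻¹) (w' := a)
            (by rw [← commutatorElement_inv]; exact inv_mem (ha.2 w))
          rw [inv_mul_cancel, commutatorElement_one_right] at h
          rw [← commutatorElement_inv, eq_inv_of_mul_eq_one_left h.symm, inv_inv,
            ← commutatorElement_inv]
          exact inv_mem (ha.2 w)⟩ }
    have hTρ : ∀ y ∈ T, ρ y ∈ T := fun y hy => ⟨by rw [← map_mul]; exact rho_center hy.1,
      fun w => by
        obtain ⟨w, rfl⟩ := ρ.surjective w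
        rw [← hρcomm]; exact rho_center (hy.2 w)⟩
    have hZT : center P ≤ T := fun z hz => ⟨mul_mem hz hz, fun w => by
      rw [commutatorElement_eq_one_iff_mul_comm.mpr (hcen hz w).eq]; exact one_mem _⟩
    have hTcomm : ∀ y ∈ T, ∀ w : P, ⁅y, w⁆ * ⁅y, w⁆ = 1 := fun y hy w => by
      rw [← comm_mul_left_of_central (hy.2 w)]
      exact commutatorElement_eq_one_iff_mul_comm.mpr (hcen hy.1 w).eq
    have hTn : T.Normal := ⟨fun y hy w => by
      have e : w * y * w⁻¹ = ⁅y, w⁆⁻¹ * y := by
        simp only [commutatorElement_def, mul_inv_rev, inv_inv, mul_assoc, inv_mul_cancel, mul_one]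
      rw [e]
      exact T.mul_mem (T.inv_mem (hZT (hy.2 w))) hy⟩
    have hφmul : ∀ y ∈ T, ∀ y' ∈ T, φ (y * y') = φ y * φ y' := by
      intro y hy y' hy'
      have hc := hy'.2 y
      have e : y * y' * (y * y') = ⁅y', y⁆ * (y * y) * (y' * y') := by
        calc y * y' * (y * y') = y * (⁅y', y⁆ * (y * y')) * y' := by
              simp only [commutatorElement_def, mul_assoc, inv_mul_cancel_left, inv_mul_cancel,
                mul_one]
          _ = ⁅y', y⁆ * y * (y * y') * y' := by rw [← mul_assoc y, (hcen hc y).symm.eq]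
          _ = _ := by simp only [mul_assoc]
      rw [hφ2, hφ2, hφ2, e, ((hcen (hy'.1)) _).symm.mul_pow, (hcen hc _).mul_pow]
      have hc1 : ⁅y', y⁆ ^ (2 ^ (f + 1)) = 1 := by
        rw [pow_succ', pow_mul, pow_two, hTcomm y' hy' y, one_pow]
      rw [hc1, one_mul]
    have hφker : ∀ y ∈ T, φ y = 1 → y ∈ center P := fun y hy h =>
      hA y hy.1 (by rw [← hφ2]; exact h)
    have hφρ : ∀ y : P, φ (ρ y) = ρ (φ y) := fun y => (map_pow ρ y _).symm
    have hZtop : center P ≠ ⊤ := fun h => by
      obtain ⟨a, b, hab⟩ := hnc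
      exact hab (hcen (h ▸ Subgroup.mem_top a) b).eq
    obtain ⟨y₀, hy₀Z, hy₀2, hy₀c⟩ := exists_invol_mod hP (center P) hZtop
    have hy₀ : y₀ ∈ T := ⟨hy₀2, hy₀c⟩
    obtain ⟨hTsurj, hTab⟩ := hF.pullback_trivial T φ (fun a b => ⁅a, b⁆) hTρ
      (fun y hy => hφsq y hy.1) hφmul (fun y _ => hφρ y)
      ⟨y₀, hy₀, fun h => hy₀Z (hφker y₀ hy₀ h)⟩
      (fun y hy w _ => hTcomm y hy w)
      (fun y _ y' hy' w _ => comm_mul_left_of_central (hy'.2 w))
      (fun y hy w _ w' _ => comm_mul_right_of_central (hy.2 w'))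
      (fun y _ => commutatorElement_self y)
      (fun y _ w _ => (hρcomm y w).symm)
      (fun y hy w _ h => commutatorElement_eq_one_iff_mul_comm.mpr (hcen (hφker y hy h) w).eq)
      (fun y _ w hw h => commutatorElement_eq_one_iff_mul_comm.mpr (hcen (hφker w hw h) y).symm.eq)
    have hTtop : T ≠ ⊤ := fun h => by
      obtain ⟨a, b, hab⟩ := hnc
      exact hab (commutatorElement_eq_one_iff_mul_comm.mp
        (hTab a (h ▸ Subgroup.mem_top a) b (h ▸ Subgroup.mem_top b)))
    -- the subgroup `U`
    let U : Set P := {y | y * y ∈ T ∧ ∀ w : P, ⁅y, w⁆ ∈ T}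
    have hU : ∀ y ∈ U, ∀ w : P, ⁅y, w⁆ ∈ center P := by
      intro y hy w
      set c := ⁅y, w⁆ with hc
      have hcT : c ∈ T := hy.2 w
      have e : ⁅y * y, w⁆ = ⁅c, y⁆⁻¹ * (c * c) := by
        rw [hc, commutatorElement_inv]
        simp only [commutatorElement_def, mul_inv_rev, inv_inv, mul_assoc, inv_mul_cancel_left,
          mul_inv_cancel_left]
      have h1 : c * c = ⁅c, y⁆ * ⁅y * y, w⁆ := by rw [e, mul_inv_cancel_left]
      have h2 : c * c * (c * c) = 1 := by
        rw [h1, ← pow_two, (hcen (hcT.2 y) _).mul_pow, pow_two, pow_two, hTcomm c hcT y,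
          hTcomm _ hy.1 w, one_mul]
      refine hφker c hcT ?_
      rw [hφ2, pow_succ', pow_mul, pow_two, h2, one_pow]
    let U' : Subgroup P :=
      { carrier := U
        one_mem' := ⟨by rw [one_mul]; exact T.one_mem, fun w => by
          rw [commutatorElement_one_left]; exact T.one_mem⟩
        mul_mem' := fun {a b} ha hb => ⟨by
            have e : a * b * (a * b) = ⁅b, a⁆ * (a * a) * (b * b) := by
              calc a * b * (a * b) = a * (⁅b, a⁆ * (a * b)) * b := by
                    simp only [commutatorElement_def, mul_assoc, inv_mul_cancel_left,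
                      inv_mul_cancel, mul_one]
                _ = ⁅b, a⁆ * a * (a * b) * b := by
                  rw [← mul_assoc a, (hcen (hU b hb a) a).symm.eq]
                _ = _ := by simp only [mul_assoc]
            rw [e]
            exact T.mul_mem (T.mul_mem (hb.2 a) ha.1) hb.1,
          fun w => by rw [comm_mul_left_of_central (hU b hb w)]; exact T.mul_mem (ha.2 w) (hb.2 w)⟩
        inv_mem' := fun {a} ha => ⟨by rw [← mul_inv_rev]; exact T.inv_mem ha.1, fun w => by
          have h := comm_mul_right_of_central (y := w) (w := a⁻¹) (w' := a)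
            (by rw [← commutatorElement_inv]; exact inv_mem (hU a ha w))
          rw [inv_mul_cancel, commutatorElement_one_right] at h
          rw [← commutatorElement_inv, eq_inv_of_mul_eq_one_left h.symm, inv_inv,
            ← commutatorElement_inv]
          exact T.inv_mem (ha.2 w)⟩ }
    have hUρ : ∀ y ∈ U', ρ y ∈ U' := fun y hy =>
      ⟨by rw [← map_mul]; exact hTρ _ hy.1, fun w => by
        obtain ⟨w, rfl⟩ := ρ.surjective w
        rw [← hρcomm]; exact hTρ _ (hy.2 w)⟩
    obtain ⟨u₀, hu₀T, hu₀2, hu₀c⟩ :=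
      letI := hTn; exists_invol_mod hP T hTtop
    have hu₀ : u₀ ∈ U' := ⟨hu₀2, hu₀c⟩
    have hψker : ∀ y ∈ U', φ (y * y) = 1 → y ∈ T := fun y hy h =>
      ⟨hφker _ hy.1 h, hU y hy⟩
    have hsq : ∀ a ∈ U', ∀ b ∈ U', a * b * (a * b) = ⁅b, a⁆ * (a * a) * (b * b) := by
      intro a _ b hb
      calc a * b * (a * b) = a * (⁅b, a⁆ * (a * b)) * b := by
            simp only [commutatorElement_def, mul_assoc, inv_mul_cancel_left, inv_mul_cancel,
              mul_one]
        _ = ⁅b, a⁆ * a * (a * b) * b := by rw [← mul_assoc a, (hcen (hU b hb a) a).symm.eq]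
        _ = _ := by simp only [mul_assoc]
    obtain ⟨hUsurj, hUT⟩ := hF.pullback_trivial U' (fun y => φ (y * y))
      (fun a b => ⁅a * a, b⁆) hUρ
      (fun y hy => hφsq _ hy.1.1)
      (fun y hy y' hy' => by
        show φ (y * y' * (y * y')) = φ (y * y) * φ (y' * y')
        rw [hsq y hy y' hy', hφmul _ (T.mul_mem (hy'.2 y) hy.1) _ hy'.1,
          hφmul _ (hy'.2 y) _ hy.1, hφZ _ (hU y' hy' y), one_mul])
      (fun y _ => by
        show φ (ρ y * ρ y) = ρ (φ (y * y))
        rw [← map_mul, hφρ])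
      ⟨u₀, hu₀, fun h => hu₀T (hψker u₀ hu₀ h)⟩
      (fun y hy w _ => hTcomm _ hy.1 w)
      (fun y hy y' hy' w _ => by
        show ⁅y * y' * (y * y'), w⁆ = ⁅y * y, w⁆ * ⁅y' * y', w⁆
        rw [hsq y hy y' hy', comm_mul_left_of_central (hy'.1.2 w),
          comm_mul_left_of_central (hy.1.2 w),
          commutatorElement_eq_one_iff_mul_comm.mpr (hcen (hU y' hy' y) w).eq, one_mul])
      (fun y hy w _ w' _ => comm_mul_right_of_central (hy.1.2 w'))
      (fun y _ => commutatorElement_eq_one_iff_mul_comm.mpr (by simp only [mul_assoc]))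
      (fun y _ w _ => by
        show ⁅ρ y * ρ y, ρ w⁆ = ρ ⁅y * y, w⁆
        rw [← map_mul, hρcomm])
      (fun y hy w _ h => commutatorElement_eq_one_iff_mul_comm.mpr
        (hcen (hφker _ hy.1 h) w).eq)
      (fun y hy w hw h => hTab _ hy.1 _ (hψker w hw h))
    -- the centraliser of `T`
    set C : Subgroup P := centralizer (T : Set P) with hC
    have hu₀C : u₀ ∈ C := by
      refine mem_centralizer_iff.mpr fun s hs => ?_
      obtain ⟨y, hy, hys⟩ := hUsurj (φ s) (hφsq s (hs : s ∈ T).1)
      have hmem : (y * y)⁻¹ * s ∈ center P := by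
        refine hφker _ (T.mul_mem (T.inv_mem hy.1) hs) ?_
        have h1 := hφmul _ hy.1 _ (T.mul_mem (T.inv_mem hy.1) hs)
        rw [mul_inv_cancel_left, hys, left_eq_mul] at h1
        exact h1
      have h1 : Commute (y * y) u₀ :=
        commutatorElement_eq_one_iff_mul_comm.mp (hUT y hy u₀ hu₀)
      have h2 := h1.mul_left (hcen hmem u₀)
      rwa [mul_inv_cancel_left] at h2
    have hCtop : C ≠ ⊤ := fun h => by
      refine hy₀Z (mem_center_iff.mpr fun w => ?_)
      exact (mem_centralizer_iff.mp (h ▸ Subgroup.mem_top w : w ∈ C) y₀ hy₀).symm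
    have hTC : T ≤ C := fun y hy => mem_centralizer_iff.mpr fun s hs =>
      commutatorElement_eq_one_iff_mul_comm.mp (hTab s hs y hy)
    have hCρ : ∀ d ∈ C, ρ d ∈ C := fun d hd => mem_centralizer_iff.mpr fun s hs => by
      obtain ⟨⟨s', hs'⟩, hss⟩ := (Finite.injective_iff_surjective
        (f := fun t : T => (⟨ρ t, hTρ t t.2⟩ : T))).1
        (fun a b h => Subtype.ext (ρ.injective (congrArg Subtype.val h))) ⟨s, hs⟩
      have hss' : ρ s' = s := congrArg Subtype.val hss
      have h := congrArg ρ (mem_centralizer_iff.mp hd s' hs')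
      rwa [map_mul, map_mul, hss'] at h
    have hCab : ∀ a ∈ C, ∀ b ∈ C, a * b = b * a := by
      by_contra hcon
      push Not at hcon
      obtain ⟨a, ha, b, hb, hab⟩ := hcon
      let ρC : MulAut C := MulEquiv.ofBijective
        ({ toFun := fun d => ⟨ρ d, hCρ d d.2⟩
           map_one' := Subtype.ext (map_one ρ)
           map_mul' := fun d d' => Subtype.ext (map_mul ρ (d : P) d') } : C →* C)
        (Finite.injective_iff_bijective.1 fun d d' h => Subtype.ext (ρ.injective (congrArg Subtype.val h)))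
      have hEC : ∀ x : P, x * x = 1 → x ∈ C := fun x hx => hTC (hZT (hEc x hx))
      have hFC : Fld ρC F n₀ (fun d => L d) ω :=
        { central := fun d hd => mem_center_iff.mpr fun w => Subtype.ext
            (mem_center_iff.mp (hEc d (congrArg Subtype.val hd)) w)
          mul := fun a b ha hb => hF.mul a b (congrArg Subtype.val ha) (congrArg Subtype.val hb)
          equiv := fun a ha => hF.equiv a (congrArg Subtype.val ha)
          inj := fun a ha h0 => Subtype.ext (hF.inj a (congrArg Subtype.val ha) h0)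
          surj := fun x => by
            obtain ⟨a, ha, hax⟩ := hF.surj x
            exact ⟨⟨a, hEC a ha⟩, Subtype.ext ha, hax⟩
          gen := hF.gen }
      have hlt : Nat.card C ≤ n := by
        have h1 : Nat.card C < Nat.card P :=
          lt_of_le_of_ne (Nat.le_of_dvd Nat.card_pos C.card_subgroup_dvd_card)
            (fun h => hCtop (Subgroup.eq_top_of_card_eq C h))
        omega
      exact hz₁2 (congrArg Subtype.val (ih hlt (hP.to_subgroup C) ρC _ hFC
        ⟨⟨a, ha⟩, ⟨b, hb⟩, fun h => hab (congrArg Subtype.val h)⟩ ⟨z₁, hTC (hZT hz₁)⟩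
        (mem_center_iff.mpr fun d => Subtype.ext (mem_center_iff.mp hz₁ d))))
    have hlowC : ∀ j ≤ f + 2, ∀ d ∈ C, d ^ (2 ^ j) = 1 → d ∈ center P := by
      intro j
      induction j with
      | zero =>
        intro _ d _ h
        rw [pow_zero, pow_one] at h
        exact h ▸ one_mem _
      | succ j ihj =>
        intro hj d hd h
        rw [pow_succ', pow_mul, pow_two] at h
        refine hA d (ihj (by omega) _ (C.mul_mem hd hd) h) ?_
        obtain ⟨i, hi⟩ : ∃ i, f + 1 = j + i := ⟨f + 1 - j, by omega⟩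
        rw [hi, pow_add, pow_mul, h, one_pow]
    -- every element squares into `C`
    have hsqC : ∀ y : P, y * y ∈ C := by
      intro y
      refine mem_centralizer_iff.mpr fun s hs => commutatorElement_eq_one_iff_mul_comm.mp ?_
      rw [comm_mul_right_of_central ((hs : s ∈ T).2 y)]
      exact hTcomm s hs y
    have hCn : C.Normal := by rw [hC]; infer_instance
    have key : ∀ y : P, ∀ j : ℕ, ∀ d ∈ C, (∀ d' ∈ C, ⁅y, d'⁆ ^ (2 ^ (j + 2)) = 1) →
        ⁅y, d⁆ ^ (2 ^ (j + 1)) = 1 := by
      intro y j d hd hj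
      have hmem : ∀ d ∈ C, ⁅y, d⁆ ∈ C := fun d hd => by
        rw [commutatorElement_def]; exact C.mul_mem (hCn.conj_mem d hd y) (C.inv_mem hd)
      have hhom : ∀ d ∈ C, ∀ d' ∈ C, ⁅y, d * d'⁆ = ⁅y, d⁆ * ⁅y, d'⁆ := by
        intro d hd d' hd'
        have e : ⁅y, d * d'⁆ = ⁅y, d⁆ * (d * ⁅y, d'⁆ * d⁻¹) := by
          simp only [commutatorElement_def, mul_inv_rev, mul_assoc, inv_mul_cancel_left]
        rw [e, hCab d hd _ (hmem d' hd'), mul_inv_cancel_right]
      have hpow : ∀ d ∈ C, ∀ i : ℕ, ⁅y, d ^ i⁆ = ⁅y, d⁆ ^ i := by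
        intro d hd i
        induction i with
        | zero => simp
        | succ i ihi => rw [pow_succ, pow_succ, hhom _ (C.pow_mem hd i) _ hd, ihi]
      have h2 : ⁅y, ⁅y, d⁆⁆ = (⁅y, d⁆ * ⁅y, d⁆)⁻¹ := by
        have hyd : y * (y * d) = d * (y * y) := by
          rw [← mul_assoc]; exact hCab _ (hsqC y) d hd
        have e : y * ⁅y, d⁆ * y⁻¹ = ⁅y, d⁆⁻¹ := by
          have e' : y * ⁅y, d⁆ * y⁻¹ = y * (y * d) * (y⁻¹ * (d⁻¹ * y⁻¹)) := by
            simp only [commutatorElement_def, mul_assoc]
          rw [e', hyd]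
          simp only [commutatorElement_def, mul_inv_rev, inv_inv, mul_assoc, mul_inv_cancel_left]
        rw [commutatorElement_def, e, mul_inv_rev]
      have h3 : ⁅y, ⁅y, d⁆ ^ (2 ^ j)⁆ = 1 := by
        have hz := hlowC (min 2 (f + 2)) (min_le_right _ _) _ (C.pow_mem (hmem d hd) (2 ^ j)) (by
          rw [min_eq_left (by omega), ← pow_mul, ← pow_add]
          exact hj d hd)
        exact commutatorElement_eq_one_iff_mul_comm.mpr (mem_center_iff.mp hz y)
      rw [hpow _ (hmem d hd), h2, inv_pow, inv_eq_one, ← pow_two, ← pow_mul, ← pow_succ'] at h3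
      exact h3
    have hC2 : ∀ d ∈ C, ∀ y : P, ⁅y, d⁆ * ⁅y, d⁆ = 1 := by
      intro d hd y
      obtain ⟨m, hm⟩ := IsPGroup.iff_card (p := 2).mp hP
      have hdown : ∀ i j : ℕ, j + i = m → ∀ d' ∈ C, ⁅y, d'⁆ ^ (2 ^ (j + 1)) = 1 := by
        intro i
        induction i with
        | zero =>
          intro j hj d' _
          rw [pow_succ, pow_mul, show j = m by omega, ← hm, pow_card_eq_one', one_pow]
        | succ i ihi =>
          intro j hj d' hd'
          exact key y j d' hd' (ihi (j + 1) (by omega))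
      have := hdown m 0 (by omega) d hd
      rwa [zero_add, pow_one, pow_two] at this
    refine hu₀T ⟨?_, hU u₀ hu₀⟩
    refine mem_center_iff.mpr fun w => commutatorElement_eq_one_iff_mul_comm.mp ?_
    have hcz : ⁅w, u₀⁆ ∈ center P := hEc _ (hC2 u₀ hu₀C w)
    rw [comm_mul_right_of_central hcz]
    exact hC2 u₀ hu₀C w

end Cfsg.Agent.Suz2Semi
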