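import Cfsg.Agent.Suz2Semi.Layer

/-!
Higman: the group has class two and all squares central.
-/

set_option autoImplicit false

namespace Cfsg.Agent.Suz2Semi

open Subgroup
open scoped commutatorElement
open Cfsg.Agent.Suzuki2 (twist twist_apply)

universe u

variable {P : Type u} [Group P] {D : Setup P} {A : Subgroup P} {m : ℕ}

theorem k_comm (z w : P) : D.k ⁅z, w⁆ = ⁅D.k z, D.k w⁆ := by simp [commutatorElement_def]

/-- A cube root of unity is a 21st power in degree six. -/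
theorem exists_pow_21 {F : Type} [Field F] [Fintype F] (hF : Fintype.card F = 64) {M : F} (hM : M ^ 3 = 1) :
    ∃ x g : F, x ≠ 0 ∧ g ≠ 0 ∧ x ^ 21 * M = 1 ∧ g ^ 21 ≠ 1 := by
  classical
  obtain ⟨g, hg⟩ : ∃ g : F, g ≠ 0 ∧ g ^ 21 ≠ 1 := by
    by_contra hall
    push Not at hall
    have hsub : (Finset.univ.erase (0 : F)) ⊆ (Polynomial.nthRoots 21 (1 : F)).toFinset := fun x hx => by
      rw [Multiset.mem_toFinset, Polynomial.mem_nthRoots (by norm_num)]
      exact hall x (Finset.ne_of_mem_erase hx)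
    have h1 := Finset.card_le_card hsub
    have h2 := (Multiset.toFinset_card_le _).trans (Polynomial.card_nthRoots 21 (1 : F))
    rw [Finset.card_erase_of_mem (Finset.mem_univ _), Finset.card_univ, hF] at h1
    omega
  obtain ⟨hg0, hg21⟩ := hg
  have h63 : g ^ 63 = 1 := by
    have h := FiniteField.pow_card_sub_one_eq_one g hg0
    rwa [hF] at h
  set r := g ^ 21 with hr
  have hr3 : r ^ 3 = 1 := by rw [hr, ← pow_mul, h63]
  have hsum : r ^ 2 + r + 1 = 0 :=
    (mul_eq_zero.1 (show (r - 1) * (r ^ 2 + r + 1) = 0 by linear_combination hr3)).resolve_left (sub_ne_zero.2 hg21)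
  have hprod : (M - 1) * ((M - r) * (M - r ^ 2)) = 0 := by
    linear_combination (-(M ^ 2) + r * M) * hsum + hM - hr3
  rcases mul_eq_zero.1 hprod with h | h
  · exact ⟨1, g, one_ne_zero, hg0, by rw [sub_eq_zero] at h; rw [h, one_pow, one_mul], hg21⟩
  rcases mul_eq_zero.1 h with h | h
  · refine ⟨g ^ 2, g, pow_ne_zero _ hg0, hg0, ?_, hg21⟩
    rw [sub_eq_zero] at h
    rw [h, ← pow_mul, mul_comm 2 21, pow_mul, ← hr, ← pow_succ, hr3]
  · refine ⟨g, g, hg0, hg0, ?_, hg21⟩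
    rw [sub_eq_zero] at h
    rw [h, ← hr, ← pow_succ', hr3]

/-- The arithmetic of the exceptional degree six. -/
theorem twist_six {F : Type} [Field F] {i : ℕ} {K f₀ β : F} (h63 : ∀ x : F, x ≠ 0 → x ^ 63 = 1)
    (hK0 : K ≠ 0) (h0 : f₀ ^ (2 * 2 ^ i - 1) = K) (hi : i = 2 ∨ i = 3) (hβ : i = 2 → K = β ^ 3) (hf₀ : f₀ ≠ 0) :
    ∃ M : F, M ^ 3 = 1 ∧ ∀ (a c : F) (j : ℕ), a ≠ 0 → c ^ (2 * 2 ^ i - 1) = K →
      c * a ^ 2 ^ i = a * f₀ ^ 2 ^ j → a ^ 21 * M = M ^ 2 ^ j := by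
  rcases hi with rfl | rfl
  · have hf1 : f₀ ^ 7 = K := h0
    have hK' := hβ rfl
    have hK9 : K ^ 9 = 1 := by rw [← hf1, ← pow_mul]; exact h63 _ hf₀
    have hb : β ≠ 0 := fun h => hK0 (by rw [hK', h]; simp)
    have hb9 : β ^ 9 = 1 := by
      rw [hK', ← pow_mul] at hK9
      have hb63 := h63 β hb
      rw [show 63 = 3 * 9 + (3 * 9 + 9) by norm_num, pow_add, pow_add, hK9, one_mul, one_mul] at hb63
      exact hb63
    refine ⟨K, by rw [hK', ← pow_mul]; exact hb9, fun a c j ha h1 hc => ?_⟩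
    have h2 := congrArg (· ^ 7) hc
    have hc1 : c ^ 7 = K := h1
    simp only [mul_pow, ← pow_mul] at h2
    rw [hc1, mul_comm (2 ^ j) 7, pow_mul f₀, hf1] at h2
    refine mul_left_cancel₀ (pow_ne_zero 7 ha) ?_
    linear_combination h2
  · have hf1 : f₀ ^ 15 = K := h0
    have hK21 : K ^ 21 = 1 := by
      rw [← hf1, ← pow_mul, show 15 * 21 = 63 * 5 by norm_num, pow_mul, h63 _ hf₀, one_pow]
    refine ⟨K ^ 14, by rw [← pow_mul, show 14 * 3 = 21 * 2 by norm_num, pow_mul, hK21, one_pow], fun a c j ha h1 hc => ?_⟩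
    have h2 := congrArg (· ^ 15) hc
    have hc1 : c ^ 15 = K := h1
    simp only [mul_pow, ← pow_mul] at h2
    rw [hc1, mul_comm (2 ^ j) 15, pow_mul f₀, hf1] at h2
    have h3 := congrArg (· ^ 14) h2
    simp only [mul_pow, ← pow_mul] at h3
    rw [mul_comm (2 ^ j) 14, show 2 ^ 3 * 15 * 14 = 63 * 26 + 42 by norm_num, pow_add, pow_mul a 63, h63 _ ha,
      one_pow, one_mul, show 15 * 14 = 63 * 3 + 21 by norm_num, pow_add, pow_mul a 63, h63 _ ha, one_pow, one_mul,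
      pow_mul K 14] at h3
    refine mul_left_cancel₀ (pow_ne_zero 21 ha) ?_
    linear_combination h3

section Good

variable (hA : Good D A m)
include hA

theorem Good.comm_mem (z : P) {a : P} (ha : a ∈ A) : ⁅z, a⁆ ∈ A := by
  rw [commutatorElement_def]
  exact A.mul_mem (hA.normal.conj_mem a ha z) (A.inv_mem ha)

theorem Good.d_mul (z : P) {a b : P} (ha : a ∈ A) (hb : b ∈ A) : ⁅z, a * b⁆ = ⁅z, a⁆ * ⁅z, b⁆ := by
  rw [show ⁅z, a * b⁆ = ⁅z, a⁆ * (a * ⁅z, b⁆ * a⁻¹) by simp only [commutatorElement_def]; group,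
    (hA.commute ha (hA.comm_mem z hb)).eq, mul_inv_cancel_right]

theorem Good.d_pow (z : P) {a : P} (ha : a ∈ A) : ∀ j : ℕ, ⁅z, a ^ j⁆ = ⁅z, a⁆ ^ j := by
  intro j
  induction j with
  | zero => simp [commutatorElement_one_right]
  | succ j ih => rw [pow_succ, hA.d_mul z (A.pow_mem ha _) ha, ih, pow_succ]

theorem Good.d_inv (z : P) {a : P} (ha : a ∈ A) : ⁅z, a⁻¹⁆ = ⁅z, a⁆⁻¹ := by
  have := hA.d_mul z (A.inv_mem ha) ha
  rw [inv_mul_cancel, commutatorElement_one_right] at this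
  exact eq_inv_of_mul_eq_one_left this.symm

theorem Good.d_small (z : P) {r : P} (hr : r ∈ A) (h4 : r ^ 4 = 1) : ⁅z, r⁆ ∈ center P := by
  refine D.inv_center _ ?_
  rw [← hA.d_mul z hr hr]
  have hc : r * r ∈ center P := D.inv_center _ (by simpa [pow_succ, mul_assoc] using h4)
  exact commutatorElement_eq_one_iff_commute.2 (mem_center_iff.1 hc z)

/-- An element squaring into `A` inverts the square of its commutators. -/
theorem Good.rel {z a : P} (ha : a ∈ A) (hz : z * z ∈ A) : ⁅z, ⁅z, a⁆⁆ * ⁅z, a⁆ * ⁅z, a⁆ = 1 := by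
  have h1 : z * (z * a * z⁻¹) * z⁻¹ = a := by
    rw [show z * (z * a * z⁻¹) * z⁻¹ = (z * z) * a * (z * z)⁻¹ by group, (hA.commute hz ha).eq,
      mul_inv_cancel_right]
  calc ⁅z, ⁅z, a⁆⁆ * ⁅z, a⁆ * ⁅z, a⁆ = z * (z * a * z⁻¹) * z⁻¹ * a⁻¹ := by
        simp only [commutatorElement_def]; group
    _ = 1 := by rw [h1, mul_inv_cancel]

theorem Good.sq_rt {e : P} (he : e ∈ center P) : ∃ r ∈ A, r * r = e ∧ r ^ 4 = 1 := by
  obtain ⟨r, hr, hre⟩ := hA.exists_sq 1 (by have := hA.two_le; omega) e (hA.center_le he)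
    (by rw [pow_one, pow_two]; exact D.center_exp e he)
  exact ⟨r, hr, hre, by rw [show r ^ 4 = (r * r) * (r * r) by simp [pow_succ, mul_assoc], hre, D.center_exp e he]⟩

variable (hC : centralizer (A : Set P) ≤ A)
include hC

/-- The layer over `A` acts faithfully on the elements of order at most four of `A`. -/
theorem Good.faithful {z₀ : P} (hz₀ : haveI := hA.normal; z₀ ∈ lay A)
    (h0 : ∀ r ∈ A, r ^ 4 = 1 → ⁅z₀, r⁆ = 1) : z₀ ∈ A := by
  classical
  haveI := hA.normal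
  haveI := D.fin
  by_cases hm : m = 2
  · subst hm
    refine hC (mem_centralizer_iff.2 fun a ha => (commutatorElement_eq_one_iff_mul_comm.1 (h0 a ha ?_)).symm)
    simpa using hA.exp a ha
  have hm3 : 3 ≤ m := by have := hA.two_le; omega
  let N : Subgroup P :=
    { carrier := {z | z ∈ lay A ∧ ∀ r ∈ A, r ^ 4 = 1 → ⁅z, r⁆ = 1}
      one_mem' := ⟨one_mem _, fun r _ _ => commutatorElement_one_left r⟩
      mul_mem' := fun {z z'} hz hz' => ⟨mul_mem hz.1 hz'.1, fun r hr h4 => by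
        rw [show ⁅z * z', r⁆ = z * ⁅z', r⁆ * z⁻¹ * ⁅z, r⁆ by simp only [commutatorElement_def]; group,
          hz'.2 r hr h4, hz.2 r hr h4]; group⟩
      inv_mem' := fun {z} hz => ⟨inv_mem hz.1, fun r hr h4 => by
        have h := commutatorElement_eq_one_iff_commute.1 (hz.2 r hr h4)
        exact commutatorElement_eq_one_iff_commute.2 h.inv_left⟩ }
  have hNd : ∀ {z}, z ∈ N → ∀ a ∈ A, ⁅z, a⁆ ∈ center P := by
    intro z hz
    have key : ∀ u, u ≤ m - 3 → ∀ a ∈ A, ⁅z, a⁆ ^ 2 ^ (m - 2 - u) = 1 := by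
      intro u
      induction u with
      | zero =>
        intro _ a ha
        rw [← hA.d_pow z ha]
        refine hz.2 _ (A.pow_mem ha _) ?_
        rw [← pow_mul, show 2 ^ (m - 2 - 0) * 4 = 2 ^ m by
          rw [show (4 : ℕ) = 2 ^ 2 from rfl, ← pow_add]; congr 1; omega]
        exact hA.exp a ha
      | succ u ih =>
        intro hu a ha
        obtain ⟨i, hi⟩ : ∃ i, m - 2 - u = i + 2 := ⟨m - 4 - u, by omega⟩
        have hc := hA.comm_mem z ha
        have hc2 := ih (by omega) a ha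
        rw [hi] at hc2
        obtain ⟨b, hb, hbc⟩ := hA.exists_root (m - (i + 2)) (i + 2) (by omega) _ hc hc2
        have h1 : ⁅z, ⁅z, a⁆⁆ ^ 2 ^ i = 1 := by
          rw [← hbc, hA.d_pow z hb, ← pow_mul, ← pow_add]
          have := ih (by omega) b hb
          rw [show m - (i + 2) + i = (m - 2 - u) + (m - (i + 2) + i - (m - 2 - u)) by omega, pow_add, pow_mul, this,
            one_pow]
        have h2 : ⁅z, a⁆ * ⁅z, a⁆ = ⁅z, ⁅z, a⁆⁆⁻¹ :=
          eq_inv_of_mul_eq_one_right (by rw [← mul_assoc]; exact hA.rel ha hz.1.1)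
        rw [show m - 2 - (u + 1) = i + 1 by omega, pow_succ', pow_mul, pow_two, h2, inv_pow, h1, inv_one]
    intro a ha
    have := key (m - 3) le_rfl a ha
    rw [show m - 2 - (m - 3) = 1 by omega, pow_one, pow_two] at this
    exact D.inv_center _ this
  have hd0 : ∀ {z}, z ∈ N → ∀ a ∈ A, a ^ 2 ^ (m - 1) = 1 → ⁅z, a⁆ = 1 := fun {z} hz a ha h => by
    obtain ⟨b, hb, rfl⟩ := hA.exists_sq (m - 1) (by omega) a ha h
    rw [hA.d_mul z hb hb]
    exact D.center_exp _ (hNd hz b hb)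
  have hnsq : ∀ {z}, z ∈ N → z ∉ A → ¬ ∃ b ∈ A, b * b = z * z := by
    rintro z hz hzA ⟨b, hb, hbb⟩
    set c := ⁅z, b⁆ with hc
    have hcz : c ∈ center P := hNd hz b hb
    obtain ⟨u, hu, huu, hu4⟩ := hA.sq_rt hcz
    set a := b⁻¹ * u with haa
    have ha : a ∈ A := A.mul_mem (A.inv_mem hb) hu
    have hda : ⁅z, a⁆ = c := by
      rw [haa, hA.d_mul z (A.inv_mem hb) hu, hz.2 u hu hu4, mul_one, hA.d_inv z hb, ← hc]
      exact inv_eq_of_mul_eq_one_right (D.center_exp c hcz)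
    have h1 : z * a * (z * a) = 1 := by
      calc z * a * (z * a) = ⁅z, a⁆ * a * (z * z) * a := by simp only [commutatorElement_def]; group
        _ = c * (a * (b * b) * a) := by rw [hda, hbb]; simp only [mul_assoc]
        _ = c * (u * u) := by
          rw [haa]
          have hbu := hA.commute hb hu
          calc c * (b⁻¹ * u * (b * b) * (b⁻¹ * u)) = c * (b⁻¹ * (u * b) * u) := by group
            _ = c * (u * u) := by rw [hbu.symm.eq]; group
        _ = 1 := by rw [huu]; exact D.center_exp c hcz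
    have := A.mul_mem (hA.center_le (D.inv_center _ h1)) (A.inv_mem ha)
    rw [mul_inv_cancel_right] at this
    exact hzA this
  by_contra hz₀A
  have hz₀N : z₀ ∈ N := ⟨hz₀, h0⟩
  have hNk : KInv D.k N := fun z hz => ⟨kInv_lay D hA.kinv z hz.1, fun r hr h4 => by
    obtain ⟨r', hr', rfl⟩ := (haveI := D.fin; hA.kinv.surj hr)
    rw [← k_comm, hz.2 r' hr' (D.k.injective (by rw [map_pow, map_one, h4])), map_one]⟩
  let φ : P → P := fun z => (z * z) ^ 2 ^ (m - 1)
  have hexp : ∀ a ∈ A, a ^ 2 ^ (m - 1) ∈ center P := fun a ha => D.inv_center _ (by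
    rw [← pow_add, ← two_mul, ← pow_succ', Nat.sub_add_cancel (by omega)]
    exact hA.exp a ha)
  have hφc : ∀ z ∈ N, φ z ∈ center P := fun z hz => hexp _ hz.1.1
  have hφmul : ∀ z ∈ N, ∀ z' ∈ N, φ (z * z') = φ z * φ z' := by
    intro z hz z' hz'
    have hc : ⁅z', z⁆ ∈ A := hz'.1.2 z
    have hcc : ⁅z', z⁆ * ⁅z', z⁆ ∈ center P := by
      have e : ⁅z', ⁅z', z⁆⁆ * (⁅z', z⁆ * ⁅z', z⁆) = ⁅z, z' * z'⁆⁻¹ := by
        simp only [commutatorElement_def, mul_inv_rev, inv_inv, mul_assoc, inv_mul_cancel_left,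
          mul_inv_cancel_left]
      rw [eq_inv_mul_of_mul_eq e]
      exact mul_mem (inv_mem (hNd hz' _ hc)) (inv_mem (hNd hz _ hz'.1.1))
    have hc4 : ⁅z', z⁆ ^ 4 = 1 := by
      rw [show ⁅z', z⁆ ^ 4 = ⁅z', z⁆ * ⁅z', z⁆ * (⁅z', z⁆ * ⁅z', z⁆) by simp [pow_succ, mul_assoc]]
      exact D.center_exp _ hcc
    have hcz := commutatorElement_eq_one_iff_commute.1 (hz.2 _ hc hc4)
    have e : z * z' * (z * z') = ⁅z', z⁆ * ((z * z) * (z' * z')) := by
      calc z * z' * (z * z') = z * ⁅z', z⁆ * (z * z' * z') := by simp only [commutatorElement_def]; group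
        _ = _ := by rw [hcz.eq]; simp only [mul_assoc]
    show (z * z' * (z * z')) ^ _ = _
    rw [e, (hA.commute hc (A.mul_mem hz.1.1 hz'.1.1)).mul_pow, (hA.commute hz.1.1 hz'.1.1).mul_pow,
      show ⁅z', z⁆ ^ 2 ^ (m - 1) = 1 by
        rw [show m - 1 = 2 + (m - 3) by omega, pow_add, pow_mul, show (2 : ℕ) ^ 2 = 4 from rfl, hc4, one_pow],
      one_mul]
  have hker : ∀ z ∈ N, φ z = 1 → z ∈ A := fun z hz h => by
    by_contra hzA
    exact hnsq hz hzA (hA.exists_sq (m - 1) (by omega) _ hz.1.1 h)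
  have hsurj : ∀ e ∈ center P, ∃ z ∈ N, φ z = e :=
    surj_of_invariant φ N hNk hφc hφmul (fun z _ => by simp [φ, map_pow])
      ⟨z₀, hz₀N, fun h => hz₀A (hker z₀ hz₀N h)⟩
  let sec : P → P := fun e => if h : e ∈ center P then (hsurj e h).choose else 1
  have hsec : ∀ e ∈ center P, sec e ∈ N ∧ φ (sec e) = e := fun e he => by
    simp only [sec, dif_pos he]
    exact (hsurj e he).choose_spec
  let rt : P → P := fun e => if h : e ∈ center P then (hA.surj e h).choose else 1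
  have hrt : ∀ e ∈ center P, rt e ∈ A ∧ rt e ^ 2 ^ (m - 1) = e := fun e he => by
    simp only [rt, dif_pos he]
    exact (hA.surj e he).choose_spec
  have hright : ∀ {z}, z ∈ N → ∀ a ∈ A, ∀ a' ∈ A, a ^ 2 ^ (m - 1) = a' ^ 2 ^ (m - 1) → ⁅z, a⁆ = ⁅z, a'⁆ := by
    intro z hz a ha a' ha' h
    have h1 := hd0 hz (a * a'⁻¹) (A.mul_mem ha (A.inv_mem ha'))
      (by rw [(hA.commute ha ha').inv_right.mul_pow, inv_pow, h, mul_inv_cancel])
    rw [hA.d_mul z ha (A.inv_mem ha'), hA.d_inv z ha', mul_inv_eq_one] at h1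
    exact h1
  have hleft : ∀ z ∈ N, ∀ z' ∈ N, φ z = φ z' → ∀ a ∈ A, ⁅z, a⁆ = ⁅z', a⁆ := by
    intro z hz z' hz' h a ha
    have hb : z'⁻¹ * z ∈ A := by
      refine hker _ (mul_mem (inv_mem hz') hz) ?_
      have h1 := hφmul z' hz' (z'⁻¹ * z) (mul_mem (inv_mem hz') hz)
      rw [mul_inv_cancel_left, h, left_eq_mul] at h1
      exact h1
    have hz_eq : z = z' * (z'⁻¹ * z) := by group
    have hcm : Commute (z'⁻¹ * z) a := hA.commute hb ha
    generalize z'⁻¹ * z = b at hz_eq hcm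
    subst hz_eq
    rw [show ⁅z' * b, a⁆ = z' * (b * a * b⁻¹) * z'⁻¹ * a⁻¹ by simp only [commutatorElement_def]; group, hcm.eq,
      mul_inv_cancel_right, commutatorElement_def]
  refine hz₀A (hC (mem_centralizer_iff.2 fun a ha => (commutatorElement_eq_one_iff_mul_comm.1 ?_).symm))
  have hz1 := hsec _ (hφc _ hz₀N)
  have ha1 := hrt _ (hexp a ha)
  rw [hleft _ hz₀N _ hz1.1 hz1.2.symm a ha, hright hz1.1 a ha _ ha1.1 ha1.2.symm]
  refine alt_trivial (D := D) (fun x y => ⁅sec x, rt y⁆) (fun x hx y hy => hNd (hsec x hx).1 _ (hrt y hy).1)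
    ?_ ?_ ?_ ?_ (hφc _ hz₀N) (hexp a ha)
  · intro x hx x' hx' y hy
    obtain ⟨a1, e1⟩ := hsec x hx
    obtain ⟨a2, e2⟩ := hsec x' hx'
    obtain ⟨a3, -⟩ := hrt y hy
    obtain ⟨a4, e4⟩ := hsec _ ((center P).mul_mem hx hx')
    rw [hleft _ a4 _ (mul_mem a1 a2) (by rw [e4, hφmul _ a1 _ a2, e1, e2]) _ a3]
    exact Cfsg.Agent.RankOne.comm_mul_left_of_central (hNd a2 _ a3)
  · intro x hx y hy y' hy'
    obtain ⟨a1, -⟩ := hsec x hx
    obtain ⟨a2, e2⟩ := hrt y hy
    obtain ⟨a3, e3⟩ := hrt y' hy'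
    obtain ⟨a4, e4⟩ := hrt _ ((center P).mul_mem hy hy')
    rw [hright a1 _ a4 _ (A.mul_mem a2 a3) (by rw [e4, (hA.commute a2 a3).mul_pow, e2, e3]), hA.d_mul _ a2 a3]
  · intro x hx
    obtain ⟨a1, e1⟩ := hsec x hx
    obtain ⟨a2, e2⟩ := hrt x hx
    rw [hright a1 _ a2 _ a1.1.1 (e2.trans e1.symm)]
    exact commutatorElement_eq_one_iff_commute.2 ((Commute.refl _).mul_right (Commute.refl _))
  · intro x hx y hy
    obtain ⟨a1, e1⟩ := hsec x hx
    obtain ⟨a2, e2⟩ := hrt y hy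
    obtain ⟨a3, e3⟩ := hsec _ (kInv_center D x hx)
    obtain ⟨a4, e4⟩ := hrt _ (kInv_center D y hy)
    rw [k_comm, hleft _ a3 _ (hNk _ a1)
        (by rw [e3, show φ (D.k (sec x)) = D.k (φ (sec x)) by simp [φ, map_pow], e1]) _ a4,
      hright (hNk _ a1) _ a4 _ (hA.kinv _ a2) (by rw [e4, ← map_pow, e2])]

/-- Idempotent case: exponent larger than four is impossible; exponent four forces the layer into the centre layer. -/
theorem Good.false_of_layer (hY : ∀ a ∈ lay (center P), ∀ b ∈ lay (center P), a * b = b * a)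
    (htop : A ≠ ⊤) : False := by
  classical
  haveI := hA.normal
  haveI := D.fin
  let L : P → D.F := D.L
  let ω : D.F := D.ω
  let F : Type := D.F
  let n : ℕ := D.n
  have hω : Gen n ω := D.fld.gen
  have hω0 : ω ≠ 0 := hω.ne
  have hLmul : ∀ a ∈ center P, ∀ b ∈ center P, L (a * b) = L a + L b := fun a ha b hb =>
    D.fld.mul a b (D.center_exp a ha) (D.center_exp b hb)
  have hLk : ∀ a ∈ center P, L (D.k a) = ω * L a := fun a ha => D.fld.equiv a (D.center_exp a ha)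
  have hL0 : ∀ a ∈ center P, L a = 0 → a = 1 := fun a ha => D.fld.inj a (D.center_exp a ha)
  have hLs : ∀ x : D.F, ∃ a ∈ center P, L a = x := fun x => by
    obtain ⟨a, ha, hax⟩ := D.fld.surj x
    exact ⟨a, D.inv_center a ha, hax⟩
  have hL1 : L 1 = 0 := D.fld.one
  have hLinj : ∀ a ∈ center P, ∀ b ∈ center P, L a = L b → a = b := fun a ha b hb h => by
    have := hL0 (a * b) (mul_mem ha hb) (by rw [hLmul a ha b hb, h, CharTwo.add_self_eq_zero])
    rw [mul_eq_one_iff_eq_inv] at this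
    exact this.trans (inv_eq_of_mul_eq_one_right (D.center_exp b hb))
  have hroot : ∀ x : F, ∃ r ∈ A, r ^ 4 = 1 ∧ r * r ∈ center P ∧ L (r * r) = x := fun x => by
    obtain ⟨e, he, hex⟩ := hLs x
    obtain ⟨r, hr, hre, h4⟩ := hA.sq_rt he
    exact ⟨r, hr, h4, hre ▸ he, hre ▸ hex⟩
  choose rt hrtA hrt4 hrtc hrtL using hroot
  have hsqc : ∀ {r}, r ∈ A → r ^ 4 = 1 → r * r ∈ center P := fun {r} _ h4 =>
    D.inv_center _ (by simpa [pow_succ, mul_assoc] using h4)
  -- dependence only on the square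
  have hindep : ∀ (z r : P), r ∈ A → r ^ 4 = 1 → L ⁅z, r⁆ = L ⁅z, rt (L (r * r))⁆ := by
    intro z r hr h4
    set s := rt (L (r * r)) with hs
    have hss : s * s = r * r := hLinj _ (hrtc _) _ (hsqc hr h4) (hrtL _)
    have hrs : r * s⁻¹ ∈ center P := D.inv_center _ (by
      rw [← pow_two, (hA.commute hr (hrtA _)).inv_right.mul_pow, inv_pow, pow_two, pow_two, hss, mul_inv_cancel])
    have h1 := hA.d_mul z (hA.center_le hrs) (hrtA (L (r * r)))
    rw [← hs, inv_mul_cancel_right, commutatorElement_eq_one_iff_commute.2 (mem_center_iff.1 hrs z), one_mul] at h1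
    rw [h1]
  let H : P → F →+ F := fun z =>
    { toFun := fun x => L ⁅z, rt x⁆
      map_zero' := by
        show L ⁅z, rt 0⁆ = 0
        have := hindep z 1 A.one_mem (one_pow 4)
        rw [mul_one, hL1, commutatorElement_one_right, hL1] at this
        exact this.symm
      map_add' := fun x y => by
        show L ⁅z, rt (x + y)⁆ = L ⁅z, rt x⁆ + L ⁅z, rt y⁆
        have h4 : (rt x * rt y) ^ 4 = 1 := by
          rw [(hA.commute (hrtA x) (hrtA y)).mul_pow, hrt4, hrt4, one_mul]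
        have := hindep z _ (A.mul_mem (hrtA x) (hrtA y)) h4
        rw [(hA.commute (hrtA y) (hrtA x)).mul_mul_mul_comm, hLmul _ (hrtc x) _ (hrtc y), hrtL, hrtL,
          hA.d_mul z (hrtA x) (hrtA y), hLmul _ (hA.d_small z (hrtA x) (hrt4 x)) _ (hA.d_small z (hrtA y) (hrt4 y))]
          at this
        exact this.symm }
  have hHapp : ∀ z r, r ∈ A → r ^ 4 = 1 → H z (L (r * r)) = L ⁅z, r⁆ := fun z r hr h4 => (hindep z r hr h4).symm
  have hHmul : ∀ z z', H (z * z') = H z + H z' := fun z z' => AddMonoidHom.ext fun x => by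
    show L ⁅z * z', rt x⁆ = L ⁅z, rt x⁆ + L ⁅z', rt x⁆
    rw [Cfsg.Agent.RankOne.comm_mul_left_of_central (hA.d_small z' (hrtA x) (hrt4 x))]
    exact hLmul _ (hA.d_small z (hrtA x) (hrt4 x)) _ (hA.d_small z' (hrtA x) (hrt4 x))
  have hH1 : H 1 = 0 := by
    have := hHmul 1 1
    rwa [mul_one, left_eq_add] at this
  have hHk : ∀ z x, H (D.k z) (ω * x) = ω * H z x := fun z x => by
    have h4 : (D.k (rt x)) ^ 4 = 1 := by rw [← map_pow, hrt4, map_one]
    have := hHapp (D.k z) _ (hA.kinv _ (hrtA x)) h4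
    rw [← map_mul, hLk _ (hrtc x), hrtL, ← k_comm, hLk _ (hA.d_small z (hrtA x) (hrt4 x))] at this
    exact this
  have hHA : ∀ a ∈ A, H a = 0 := fun a ha => AddMonoidHom.ext fun x => by
    show L ⁅a, rt x⁆ = 0
    rw [commutatorElement_eq_one_iff_commute.2 (hA.commute ha (hrtA x)), hL1]
  have hHker : ∀ z ∈ lay A, H z = 0 → z ∈ A := fun z hz h => hA.faithful hC hz fun r hr h4 => by
    refine hL0 _ (hA.d_small z hr h4) ?_
    rw [← hHapp z r hr h4, h]; rfl
  obtain ⟨z₁, -, hz₁, hz₁A⟩ := exists_mem_lay D.fin D.two (A := A) (C := ⊤) (lt_top_iff_ne_top.2 htop)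
  obtain ⟨W, ⟨hAW, hWl, hWk⟩, hWmin⟩ := Set.exists_min_image {U : Subgroup P | A < U ∧ U ≤ lay A ∧ KInv D.k U}
    (fun U => Nat.card U) (Set.toFinite _)
    ⟨lay A, lt_of_le_of_ne (le_lay A) (fun e => hz₁A (e.symm ▸ hz₁)), le_rfl, kInv_lay D hA.kinv⟩
  have hkerW : ∀ z ∈ W, H z = 0 → z ∈ A := fun z hz => hHker z (hWl hz)
  let W' : AddSubgroup (F →+ F) :=
    { carrier := {T | ∃ z ∈ W, H z = T}
      zero_mem' := ⟨1, W.one_mem, hH1⟩
      add_mem' := by
        rintro _ _ ⟨z, hz, rfl⟩ ⟨z', hz', rfl⟩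
        exact ⟨z * z', W.mul_mem hz hz', hHmul z z'⟩
      neg_mem' := by
        rintro _ ⟨z, hz, rfl⟩
        exact ⟨z⁻¹, W.inv_mem hz, eq_neg_of_add_eq_zero_left (by rw [← hHmul, inv_mul_cancel, hH1])⟩ }
  haveI : Finite (F →+ F) := Finite.of_injective (fun T => (T : F → F)) DFunLike.coe_injective
  have htw : ∀ z, twist ω (H z) = H (D.k z) := fun z => AddMonoidHom.ext fun e => by
    rw [twist_apply, ← hHk, mul_inv_cancel_left₀ hω0]
  let C : W' →+ W' :=
    { toFun := fun T => ⟨twist ω T.1, by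
        obtain ⟨z, hz, hzT⟩ := T.2
        exact ⟨D.k z, hWk z hz, by rw [← hzT, htw]⟩⟩
      map_zero' := Subtype.ext (map_zero (twist ω))
      map_add' := fun T T' => Subtype.ext (map_add (twist ω) T.1 T'.1) }
  obtain ⟨z₂, hz₂, hz₂A⟩ := SetLike.exists_of_lt hAW
  haveI : Nontrivial W' := ⟨⟨H z₂, z₂, hz₂, rfl⟩, 0, fun h => hz₂A (hkerW z₂ hz₂ (congrArg Subtype.val h))⟩
  obtain ⟨i, μ, hi0, hi, hμ, hmon, hfC⟩ := monomial_family hω.card hω.pos hω C W'.subtype W'.subtype_injective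
    (fun T e => by
      show twist ω T.1 (ω * e) = ω * T.1 e
      rw [twist_apply, inv_mul_cancel_left₀ hω0])
    (fun T hT => by
      obtain ⟨z, hz, hzT⟩ := T.2
      have h1 : H (D.k z) = H z := by rw [← htw, hzT]; exact congrArg Subtype.val hT
      have h2 : D.k z * z⁻¹ ∈ A := hkerW _ (W.mul_mem (hWk z hz) (W.inv_mem hz)) (by
        rw [hHmul, h1, ← hHmul, mul_inv_cancel, hH1])
      obtain ⟨v, hv, hvw⟩ := exists_twisted D hA.kinv h2
      have h3 : D.k (v⁻¹ * z) = v⁻¹ * z := by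
        rw [map_mul, map_inv, show D.k z = (D.k z * z⁻¹) * z by rw [inv_mul_cancel_right], ← hvw]
        group
      have h4' := fpf D h3
      rw [inv_mul_eq_one] at h4'
      subst h4'
      exact Subtype.ext (hzT.symm.trans (hHA v hv)))
    (fun U hU => by
      let U'' : Subgroup P :=
        { carrier := {z | ∃ h : z ∈ W, (⟨H z, z, h, rfl⟩ : W') ∈ U}
          one_mem' := ⟨W.one_mem, by
            have : (⟨H 1, 1, W.one_mem, rfl⟩ : W') = 0 := Subtype.ext hH1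
            rw [this]; exact U.zero_mem⟩
          mul_mem' := by
            rintro a b ⟨ha, ha'⟩ ⟨hb, hb'⟩
            refine ⟨W.mul_mem ha hb, ?_⟩
            convert U.add_mem ha' hb' using 1
            exact Subtype.ext (hHmul a b)
          inv_mem' := by
            rintro a ⟨ha, ha'⟩
            refine ⟨W.inv_mem ha, ?_⟩
            convert U.neg_mem ha' using 1
            exact Subtype.ext (eq_neg_of_add_eq_zero_left (by rw [← hHmul, inv_mul_cancel, hH1])) }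
      have hUW : U'' ≤ W := fun z ⟨h, _⟩ => h
      have hAU : A ≤ U'' := fun a ha => ⟨hAW.le ha, by
        have : (⟨H a, a, hAW.le ha, rfl⟩ : W') = 0 := Subtype.ext (hHA a ha)
        rw [this]; exact U.zero_mem⟩
      have hUk : KInv D.k U'' := fun z ⟨hz, hz'⟩ => ⟨hWk z hz, by
        convert hU _ hz' using 1
        exact Subtype.ext (htw z).symm⟩
      rcases eq_or_lt_of_le hAU with he | hlt
      · refine Or.inl ((AddSubgroup.eq_bot_iff_forall _).2 fun T hT => ?_)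
        obtain ⟨z, hz, hzT⟩ := T.2
        have hzU : z ∈ U'' := ⟨hz, by convert hT using 1; exact Subtype.ext hzT⟩
        rw [← he] at hzU
        exact Subtype.ext (hzT.symm.trans (hHA z hzU))
      · refine Or.inr (eq_top_iff.2 fun T _ => ?_)
        obtain ⟨z, hz, hzT⟩ := T.2
        have := eq_of_le_of_card_ge hUW (hWmin U'' ⟨hlt, hUW.trans hWl, hUk⟩)
        obtain ⟨hz', hzU⟩ : z ∈ U'' := this.symm ▸ hz
        convert hzU using 1
        exact Subtype.ext hzT.symm)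
  by_cases hm : m = 2
  swap
  · -- idempotent endomorphisms
    have hm3 : 3 ≤ m := by have := hA.two_le; omega
    have hidem : ∀ z ∈ lay A, ∀ x, H z (H z x) = H z x := by
      intro z hz x
      obtain ⟨s, hs, hss⟩ := hA.exists_sq 2 (by omega) (rt x) (hrtA x) (hrt4 x)
      have hc := hA.comm_mem z hs
      have hcc : ⁅z, s⁆ * ⁅z, s⁆ = ⁅z, rt x⁆ := by rw [← hA.d_mul z hs hs, hss]
      have hcc' := hA.d_small z (hrtA x) (hrt4 x)
      have hc4 : ⁅z, s⁆ ^ 4 = 1 := by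
        rw [show ⁅z, s⁆ ^ 4 = ⁅z, s⁆ * ⁅z, s⁆ * (⁅z, s⁆ * ⁅z, s⁆) by simp [pow_succ, mul_assoc], hcc]
        exact D.center_exp _ hcc'
      have hrel := hA.rel hs hz.1
      rw [mul_assoc, hcc, mul_eq_one_iff_eq_inv] at hrel
      have h2 := hHapp z _ hc hc4
      rw [hcc, hrel, inv_eq_of_mul_eq_one_right (D.center_exp _ hcc')] at h2
      exact h2
    -- a monomial idempotent is the identity
    have hmon₂ : ∀ x, H z₂ x = H z₂ 1 * x ^ 2 ^ i := fun x => hmon ⟨H z₂, z₂, hz₂, rfl⟩ x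
    have hc0 : H z₂ 1 ≠ 0 := fun h0 => hz₂A (hkerW z₂ hz₂ (AddMonoidHom.ext fun x => by
      rw [hmon₂, h0, zero_mul]; rfl))
    have h1 : ∀ x, (H z₂ 1 * x ^ 2 ^ i) ^ 2 ^ i = x ^ 2 ^ i := fun x => by
      have := hidem z₂ (hWl hz₂) x
      rw [hmon₂ (H z₂ x), hmon₂ x] at this
      exact mul_left_cancel₀ hc0 this
    have h2 := h1 1
    rw [one_pow, mul_one] at h2
    have h3 := h1 ω
    rw [mul_pow, h2, one_mul] at h3
    have h4 : ω ^ 2 ^ i = ω := (iterateFrobenius D.F 2 i).injective (by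
      rw [iterateFrobenius_def, iterateFrobenius_def]; exact h3)
    have := hω.inj hi hω.pos (by rw [h4, pow_zero, pow_one])
    omega
  -- exponent four
  subst hm
  have h4 : ∀ a ∈ A, a ^ 4 = 1 := fun a ha => by simpa using hA.exp a ha
  have hYA : lay (center P) ≤ A := fun y hy => hC (mem_centralizer_iff.2 fun a ha =>
    hY a ⟨hsqc ha (h4 a ha), fun w => by
      rw [← commutatorElement_inv]
      exact inv_mem (hA.d_small w ha (h4 a ha))⟩ y hy)
  -- all the monomials of this exponent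
  let W₁ : Subgroup P :=
    { carrier := {z | z ∈ lay A ∧ ∀ e, H z e = H z 1 * e ^ 2 ^ i}
      one_mem' := ⟨one_mem _, fun e => by rw [hH1]; simp⟩
      mul_mem' := fun {a b} ha hb => ⟨mul_mem ha.1 hb.1, fun e => by
        rw [hHmul, AddMonoidHom.add_apply, AddMonoidHom.add_apply, ha.2, hb.2, add_mul]⟩
      inv_mem' := fun {a} ha => ⟨inv_mem ha.1, fun e => by
        have e1 : H a⁻¹ = - H a := eq_neg_of_add_eq_zero_left (by rw [← hHmul, inv_mul_cancel, hH1])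
        rw [e1, AddMonoidHom.neg_apply, AddMonoidHom.neg_apply, ha.2, neg_mul]⟩ }
  have hW₁k : ∀ z ∈ W₁, D.k z ∈ W₁ ∧ H (D.k z) 1 = μ * H z 1 := fun z hz => by
    have h1 : ∀ e, H (D.k z) (ω * e) = μ * H z 1 * (ω * e) ^ 2 ^ i := fun e => by
      rw [hHk, hz.2, mul_pow]
      linear_combination -(H z 1 * e ^ 2 ^ i) * hμ
    have h2 : H (D.k z) 1 = μ * H z 1 := by
      have := h1 ω⁻¹
      rwa [mul_inv_cancel₀ hω0, one_pow, mul_one] at this
    refine ⟨⟨kInv_lay D hA.kinv z hz.1, fun e => ?_⟩, h2⟩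
    have := h1 (ω⁻¹ * e)
    rwa [mul_inv_cancel_left₀ hω0, ← h2] at this
  have hW₁2 : z₂ ∈ W₁ := ⟨hWl hz₂, fun e => hmon ⟨H z₂, z₂, hz₂, rfl⟩ e⟩
  let W'' : AddSubgroup (D.F →+ D.F) :=
    { carrier := {T | ∃ z ∈ W₁, H z = T}
      zero_mem' := ⟨1, W₁.one_mem, hH1⟩
      add_mem' := by
        rintro _ _ ⟨z, hz, rfl⟩ ⟨z', hz', rfl⟩
        exact ⟨z * z', W₁.mul_mem hz hz', hHmul z z'⟩
      neg_mem' := by
        rintro _ ⟨z, hz, rfl⟩
        exact ⟨z⁻¹, W₁.inv_mem hz, eq_neg_of_add_eq_zero_left (by rw [← hHmul, inv_mul_cancel, hH1])⟩ }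
  let C₁ : W'' → W'' := fun T => ⟨twist ω T.1, by
    obtain ⟨z, hz, hzT⟩ := T.2
    exact ⟨D.k z, (hW₁k z hz).1, by rw [← hzT, htw]⟩⟩
  have hmon₁ : ∀ (T : W'') e, T.1 e = T.1 1 * e ^ 2 ^ i := fun T e => by
    obtain ⟨z, hz, hzT⟩ := T.2
    rw [← hzT]; exact hz.2 e
  let f : W'' →+ D.F := AddMonoidHom.mk' (fun T => T.1 1) fun T T' => rfl
  have hfinj : Function.Injective f := (injective_iff_map_eq_zero f).2 fun T hT =>
    Subtype.ext (AddMonoidHom.ext fun e => by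
      rw [hmon₁, show T.1 1 = 0 from hT, zero_mul]; rfl)
  have hker₁ : ∀ z ∈ W₁, H z = 0 → z ∈ A := fun z hz => hHker z hz.1
  -- squares in the layer are central
  have hsq : ∀ z ∈ W₁, z * z ∈ center P := by
    intro z hz
    by_cases hzA : z ∈ A
    · exact hsqc hzA (h4 z hzA)
    have ht := hz.1.1
    have h1 := hHapp z _ ht (h4 _ ht)
    rw [commutatorElement_eq_one_iff_commute.2 ((Commute.refl z).mul_right (Commute.refl z)), hL1] at h1
    have h2 := hmon₁ ⟨H z, z, hz, rfl⟩ (L (z * z * (z * z)))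
    rw [h1, eq_comm, mul_eq_zero] at h2
    rcases h2 with h2 | h2
    · exact absurd (hker₁ z hz (congrArg Subtype.val (hfinj (h2.trans (map_zero f).symm) :
        (⟨H z, z, hz, rfl⟩ : W'') = 0))) hzA
    · exact D.inv_center _ (hL0 _ (hsqc ht (h4 _ ht)) (eq_zero_of_pow_eq_zero h2))
  -- commutators
  have hcA : ∀ w : P, ∀ z ∈ W₁, ⁅w, z⁆ ∈ A := fun w z hz => by
    rw [← commutatorElement_inv]
    exact A.inv_mem (hz.1.2 w)
  let ℓ : P → P → F := fun w z => L (⁅w, z⁆ * ⁅w, z⁆)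
  have hsqmul : ∀ c ∈ A, ∀ e ∈ center P, ∀ c' ∈ A,
      L ((c * (e * c')) * (c * (e * c'))) = L (c * c) + L (c' * c') := by
    intro c hc e he c' hc'
    have h1 : (c * (e * c')) * (c * (e * c')) = (c * c) * ((e * e) * (c' * c')) := by
      rw [(hA.commute (A.mul_mem (hA.center_le he) hc') hc).mul_mul_mul_comm,
        (hA.commute hc' (hA.center_le he)).mul_mul_mul_comm]
    rw [h1, D.center_exp e he, one_mul, hLmul _ (hsqc hc (h4 c hc)) _ (hsqc hc' (h4 c' hc'))]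
  have hℓr : ∀ w, ∀ z ∈ W₁, ∀ z' ∈ W₁, ℓ w (z * z') = ℓ w z + ℓ w z' := by
    intro w z hz z' hz'
    have hc := hcA w z' hz'
    show L _ = _
    rw [show ⁅w, z * z'⁆ = ⁅w, z⁆ * (⁅z, ⁅w, z'⁆⁆ * ⁅w, z'⁆) by simp only [commutatorElement_def]; group]
    exact hsqmul _ (hcA w z hz) _ (hA.d_small z hc (h4 _ hc)) _ hc
  have hℓl : ∀ w w', ∀ z ∈ W₁, ℓ (w * w') z = ℓ w z + ℓ w' z := by
    intro w w' z hz
    have hc := hcA w' z hz
    show L _ = _
    have e : ⁅w * w', z⁆ = ⁅w, ⁅w', z⁆⁆ * ⁅w', z⁆ * ⁅w, z⁆ := by simp only [commutatorElement_def]; group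
    rw [e, ← (hA.commute (hcA w z hz) (A.mul_mem (hA.center_le (hA.d_small w hc (h4 _ hc))) hc)).eq]
    exact hsqmul _ (hcA w z hz) _ (hA.d_small w hc (h4 _ hc)) _ hc
  have hℓA : ∀ w, ∀ a ∈ A, ℓ w a = 0 := fun w a ha => by
    show L _ = 0
    rw [D.center_exp _ (hA.d_small w ha (h4 a ha)), hL1]
  have hwd : ∀ w, ∀ z ∈ W₁, ∀ z' ∈ W₁, H z = H z' → ℓ w z = ℓ w z' := by
    intro w z hz z' hz' h
    have ha : z'⁻¹ * z ∈ A := hker₁ _ (W₁.mul_mem (W₁.inv_mem hz') hz) (by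
      rw [hHmul, h, ← hHmul, inv_mul_cancel, hH1])
    have := hℓr w z' hz' _ (W₁.mul_mem (W₁.inv_mem hz') hz)
    rwa [mul_inv_cancel_left, hℓA w _ ha, add_zero] at this
  choose pick hpickW hpickH using fun T : W'' => T.2
  let Lw : P → W'' →+ F := fun w => AddMonoidHom.mk' (fun T => ℓ w (pick T)) fun T T' => by
    rw [← hℓr w _ (hpickW T) _ (hpickW T')]
    exact hwd w _ (hpickW _) _ (W₁.mul_mem (hpickW T) (hpickW T')) (by rw [hHmul, hpickH, hpickH, hpickH]; rfl)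
  have hLw : ∀ w T, f T * Lw w T ^ 2 ^ i = Lw w T := by
    intro w T
    set z := pick T with hz'
    have hzW : z ∈ W₁ := hpickW T
    set c := ⁅w, z⁆ with hc'
    have hc : c ∈ A := hcA w z hzW
    have h1 : c * (⁅z, c⁆ * c) = 1 := by
      have h2 : w * (z * z) * w⁻¹ = z * z := by
        rw [mem_center_iff.1 (hsq z hzW) w, mul_inv_cancel_right]
      calc c * (⁅z, c⁆ * c) = w * (z * z) * w⁻¹ * (z * z)⁻¹ := by
            rw [hc']; simp only [commutatorElement_def]; group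
        _ = 1 := by rw [h2, mul_inv_cancel]
    have h3 : ⁅z, c⁆ = c * c := by
      have h5 : ⁅z, c⁆ * c = c⁻¹ := eq_inv_of_mul_eq_one_right h1
      rw [eq_mul_inv_of_mul_eq h5, ← mul_inv_rev]
      exact inv_eq_of_mul_eq_one_right (D.center_exp _ (hsqc hc (h4 c hc)))
    have h6 := hHapp z c hc (h4 c hc)
    rw [h3, hpickH T] at h6
    have h7 := hmon₁ T (L (c * c))
    exact h7.symm.trans h6
  set T₀ : W'' := ⟨H z₂, z₂, hW₁2, rfl⟩ with hT₀
  have hT₀0 : T₀ ≠ 0 := fun h => hz₂A (hker₁ z₂ hW₁2 (congrArg Subtype.val h))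
  have hf0 : f T₀ ≠ 0 := fun h => hT₀0 (hfinj (h.trans (map_zero f).symm))
  have hfC' : ∀ T, f (C₁ T) = μ * f T := fun T => by
    obtain ⟨z, hz, hzT⟩ := T.2
    show twist ω T.1 1 = μ * T.1 1
    rw [← hzT, htw]; exact (hW₁k z hz).2
  -- rigidity
  have hrig : ∀ w, Lw w ≠ 0 → ∀ T, Lw w T = f T ^ 2 := by
    intro w hw
    rcases section_rigid hω C₁ hi0 hi hμ f hfinj hfC' (Lw w) (hLw w) hw with h | ⟨hn6, hd, hi23, K, β, hK0, hK3, hK⟩
    · exact h
    exfalso
    have h63 : ∀ x : D.F, x ≠ 0 → x ^ 63 = 1 := fun x hx => by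
      have h := FiniteField.pow_card_sub_one_eq_one x hx
      rw [hω.card, show n = 6 from hn6] at h
      exact h
    have hK₀ : H z₂ 1 ^ (2 * 2 ^ i - 1) = K := hK T₀ hT₀0
    obtain ⟨M, hM3, hM⟩ := twist_six h63 hK0 hK₀ hi23 hK3 hf0
    obtain ⟨x, g, hx0, hg0, hxM, hg21⟩ :=
      exists_pow_21 (show Fintype.card D.F = 64 by rw [hω.card, show n = 6 from hn6]; rfl) hM3
    obtain ⟨y, a, j, ha0, hax, hy⟩ := D.twist hn6 hd x (x * g) hx0 (mul_ne_zero hx0 hg0)
    have hAeq : A = lay (center P) := le_antisymm (fun c hc => ⟨hsqc hc (h4 c hc), fun w => by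
      rw [← commutatorElement_inv]
      exact inv_mem (hA.d_small w hc (h4 c hc))⟩) hYA
    have hyc : ∀ {c}, c ∈ center P → y c ∈ center P := fun {c} hc => by
      rw [mem_center_iff] at hc ⊢
      intro g
      obtain ⟨g, rfl⟩ := y.surjective g
      rw [← map_mul, ← map_mul, hc]
    have hyA : ∀ {c}, c ∈ A → y c ∈ A := fun {c} hc => by
      rw [hAeq] at hc ⊢
      refine ⟨by rw [← map_mul]; exact hyc hc.1, fun g => ?_⟩
      obtain ⟨g, rfl⟩ := y.surjective g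
      simpa [commutatorElement_def] using hyc (hc.2 g)
    have hyH : ∀ z x, H (y z) (a * x ^ 2 ^ j) = a * H z x ^ 2 ^ j := fun z x => by
      have h4' : (y (rt x)) ^ 4 = 1 := by rw [← map_pow, hrt4, map_one]
      have := hHapp (y z) _ (hyA (hrtA x)) h4'
      rw [← map_mul, show L (y (rt x * rt x)) = a * L (rt x * rt x) ^ 2 ^ j from hy _ (D.center_exp _ (hrtc x)),
        hrtL] at this
      rw [this]
      have h5 := hy _ (D.center_exp _ (hA.d_small z (hrtA x) (hrt4 x)))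
      rw [map_commutatorElement] at h5
      exact h5
    have hyl : y z₂ ∈ lay A := by
      refine ⟨by rw [← map_mul]; exact hyA hW₁2.1.1, fun g => ?_⟩
      obtain ⟨g, rfl⟩ := y.surjective g
      simpa [commutatorElement_def] using hyA (hW₁2.1.2 g)
    obtain ⟨c, hc⟩ : ∃ c, c * a ^ 2 ^ i = a * H z₂ 1 ^ 2 ^ j :=
      ⟨a * H z₂ 1 ^ 2 ^ j / a ^ 2 ^ i, div_mul_cancel₀ _ (pow_ne_zero _ ha0)⟩
    have hall : ∀ e, H (y z₂) e = c * e ^ 2 ^ i := fun e => by
      obtain ⟨x, hx⟩ : ∃ x : D.F, a * x ^ 2 ^ j = e := by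
        obtain ⟨x, hx⟩ := (Finite.injective_iff_surjective.1 (iterateFrobenius D.F 2 j).injective) (e / a)
        exact ⟨x, by rw [iterateFrobenius_def] at hx; rw [hx, mul_div_cancel₀ _ ha0]⟩
      rw [← hx, hyH, hW₁2.2 x, mul_pow, mul_pow, Suzuki2.two_pow_mul, Suzuki2.two_pow_mul, add_comm i j]
      linear_combination -(x ^ 2 ^ (j + i)) * hc
    have hy1 : H (y z₂) 1 = c := by rw [hall, one_pow, mul_one]
    have hyW : y z₂ ∈ W₁ := ⟨hyl, fun e => by rw [hall, hy1]⟩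
    have hc0 : c ≠ 0 := fun h0 => by
      rw [h0, zero_mul, eq_comm, mul_eq_zero] at hc
      refine hf0 (eq_zero_of_pow_eq_zero (hc.resolve_left ha0))
    have hK₁ : c ^ (2 * 2 ^ i - 1) = K := by
      have h := hK ⟨H (y z₂), y z₂, hyW, rfl⟩ (fun h0 => hc0 (by
        rw [← hy1, show H (y z₂) = 0 from congrArg Subtype.val h0]; rfl))
      rwa [show f (⟨H (y z₂), y z₂, hyW, rfl⟩ : W'') = c from hy1] at h
    have h1 := hM a c j ha0 hK₁ hc
    apply hg21
    have h2 : (x * g) ^ 21 * M = 1 := by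
      rw [← hax, mul_pow, ← pow_mul x, mul_comm (2 ^ j) 21, pow_mul x, mul_right_comm, h1, ← mul_pow, mul_comm,
        hxM, one_pow]
    rwa [mul_pow, mul_right_comm, hxM, one_mul] at h2
  let ψ : P → D.F := fun w => Lw w T₀ / f T₀ ^ 2
  have hψ : ∀ w, ∀ T, Lw w T = ψ w * f T ^ 2 := by
    intro w T
    by_cases h : Lw w = 0
    · simp [ψ, h]
    show _ = Lw w T₀ / f T₀ ^ 2 * _
    rw [hrig w h T, hrig w h T₀, div_self (pow_ne_zero _ hf0), one_mul]
  have hψ01 : ∀ w, ψ w = 0 ∨ ψ w = 1 := by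
    intro w
    by_cases h : Lw w = 0
    · exact Or.inl (by simp [ψ, h])
    right
    show Lw w T₀ / f T₀ ^ 2 = 1
    rw [hrig w h T₀,
      div_self (pow_ne_zero _ hf0)]
  have hψ0 : ∀ w, ψ w = 0 := fun w => by
    refine eq_zero_of_invariant D (kInv_top D) ψ (fun a _ b _ => ?_) (fun a _ => ?_) (Subgroup.mem_top w)
    · show Lw (a * b) T₀ / _ = _
      rw [show Lw (a * b) T₀ = Lw a T₀ + Lw b T₀ from hℓl a b _ (hpickW T₀), add_div]
    · have h1 : Lw (D.k a) (C₁ T₀) = ω * Lw a T₀ := by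
        show ℓ (D.k a) (pick (C₁ T₀)) = ω * ℓ a (pick T₀)
        rw [hwd (D.k a) _ (hpickW _) (D.k (pick T₀)) ((hW₁k _ (hpickW _)).1)
          (by rw [hpickH, ← htw, hpickH])]
        show L (⁅D.k a, D.k (pick T₀)⁆ * ⁅D.k a, D.k (pick T₀)⁆) = _
        rw [← k_comm, ← map_mul, hLk _ (hsqc (hcA a _ (hpickW _)) (h4 _ (hcA a _ (hpickW _))))]
      rw [hψ (D.k a), hψ a, hfC'] at h1
      have hμ0 : μ ≠ 0 := fun h0 => hω0 (by rw [← hμ, h0, zero_mul])
      rcases hψ01 a with ha | ha <;> rcases hψ01 (D.k a) with hb | hb <;> rw [ha, hb] at h1 ⊢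
      · exfalso
        simp only [one_mul, zero_mul, mul_zero] at h1
        exact pow_ne_zero 2 (mul_ne_zero hμ0 hf0) h1
      · exfalso
        simp only [one_mul, zero_mul] at h1
        exact mul_ne_zero hω0 (pow_ne_zero 2 hf0) h1.symm
  refine hz₂A (hYA ⟨hsq z₂ hW₁2, fun w => ?_⟩)
  have h1 : ℓ w z₂ = 0 := by
    rw [hwd w z₂ hW₁2 (pick T₀) (hpickW _) (hpickH T₀).symm]
    show Lw w T₀ = 0
    rw [hψ w, hψ0, zero_mul]
  rw [← commutatorElement_inv]
  exact inv_mem (D.inv_center _ (hL0 _ (hsqc (hcA w _ hW₁2) (h4 _ (hcA w _ hW₁2))) h1))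

end Good

/-- Squares and commutators of a Suzuki 2-group are central. -/
theorem lay_center_eq_top (D : Setup P) : lay (center P) = ⊤ := by
  classical
  haveI := D.fin
  by_contra htop
  set Y := lay (center P) with hY
  obtain ⟨x, -, hx, hxY⟩ := exists_mem_lay D.fin D.two (A := Y) (C := ⊤) (lt_top_iff_ne_top.2 htop)
  set R := Y ⊓ centralizer (Y : Set P) with hR
  have hact : ∀ w : P, ∀ y ∈ Y, w * y * w⁻¹ = ⁅y, w⁆⁻¹ * y := fun w y _ => by
    simp only [commutatorElement_def]; group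
  have htwo : ∀ u v : P, ∀ y ∈ Y, u * (v * y * v⁻¹) * u⁻¹ = ⁅y, v⁆⁻¹ * ⁅y, u⁆⁻¹ * y := fun u v y hy => by
    rw [hact v y hy, show u * (⁅y, v⁆⁻¹ * y) * u⁻¹ = u * ⁅y, v⁆⁻¹ * (y * u⁻¹) by simp only [mul_assoc],
      mem_center_iff.1 (inv_mem (hy.2 v)) u, show ⁅y, v⁆⁻¹ * u * (y * u⁻¹) = ⁅y, v⁆⁻¹ * (u * y * u⁻¹) by
        simp only [mul_assoc], hact u y hy, ← mul_assoc]
  have hxc : ∀ w, ⁅x, w⁆ ∈ R := by
    refine fun w => ⟨hx.2 w, mem_centralizer_iff.2 fun y hy => ?_⟩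
    set y' := x⁻¹ * (w⁻¹ * y * w) * x with hy'
    have hy'Y : y' ∈ Y := by
      have h1 := (inferInstance : (lay (center P)).Normal).conj_mem y hy w⁻¹
      have h2 := (inferInstance : (lay (center P)).Normal).conj_mem _ h1 x⁻¹
      simp only [inv_inv] at h2
      exact h2
    have h2 : x * (w * y' * w⁻¹) * x⁻¹ = w * (x * y' * x⁻¹) * w⁻¹ := by
      rw [htwo x w y' hy'Y, htwo w x y' hy'Y, mem_center_iff.1 (inv_mem (hy'Y.2 x)) ⁅y', w⁆⁻¹]
    have h3 : ⁅x, w⁆ * y * ⁅x, w⁆⁻¹ = y := by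
      calc ⁅x, w⁆ * y * ⁅x, w⁆⁻¹ = x * (w * y' * w⁻¹) * x⁻¹ := by
            rw [hy']; simp only [commutatorElement_def]; group
        _ = w * (x * y' * x⁻¹) * w⁻¹ := h2
        _ = y := by rw [hy']; group
    exact (mul_inv_eq_iff_eq_mul.1 h3).symm
  have hxx : x * x ∈ R := ⟨hx.1, mem_centralizer_iff.2 fun y hy => by
    have h1 : x * (x * y * x⁻¹) * x⁻¹ = y := by rw [htwo x x y hy, D.center_exp _ (inv_mem (hy.2 x)), one_mul]
    calc y * (x * x) = x * (x * y * x⁻¹) * x⁻¹ * (x * x) := by rw [h1]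
      _ = x * x * y := by group⟩
  obtain ⟨r₀, hr₀, hr₀c⟩ : ∃ r ∈ R, r ∉ center P := by
    by_contra hno
    push Not at hno
    exact hxY ⟨hno _ hxx, fun w => hno _ (hxc w)⟩
  have hYk : KInv D.k Y := kInv_lay D (kInv_center D)
  have hRk : KInv D.k R := hYk.inf (hYk.centralizer)
  have hsurj : ∀ e ∈ center P, ∃ r ∈ R, r * r = e :=
    surj_of_invariant (fun r => r * r) R hRk (fun r hr => hr.1.1)
      (fun r hr r' hr' => (show Commute r r' from mem_centralizer_iff.1 hr'.2 r hr.1).symm.mul_mul_mul_comm _ _)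
      (fun r _ => (map_mul D.k r r).symm)
      ⟨r₀, hr₀, fun h => hr₀c (D.inv_center _ h)⟩
  have hcent : center P ≤ Y := le_lay _
  have hab : ∀ a ∈ Y, ∀ b ∈ Y, a * b = b * a := by
    intro a ha b hb
    obtain ⟨r, hr, hrr⟩ := hsurj _ ha.1
    have hc : Commute a r := mem_centralizer_iff.1 hr.2 a ha
    have h1 : a * r⁻¹ ∈ center P := D.inv_center _ (by
      rw [← pow_two, hc.inv_right.mul_pow, inv_pow, pow_two, pow_two, hrr, mul_inv_cancel])
    have hbr : b * r = r * b := mem_centralizer_iff.1 hr.2 b hb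
    have ha' : a = (a * r⁻¹) * r := by rw [inv_mul_cancel_right]
    rw [ha', mul_assoc, ← hbr, ← mul_assoc, ← mem_center_iff.1 h1 b, mul_assoc]
  have hG : Good D Y 2 :=
    { two_le := le_rfl
      normal := inferInstance
      kinv := hYk
      comm := hab
      exp := fun a ha => by
        rw [pow_two 2, pow_mul, pow_two, pow_two]; exact D.center_exp _ ha.1
      surj := fun e he => by
        obtain ⟨r, hr, hrr⟩ := hsurj e he
        exact ⟨r, hr.1, by rw [show 2 ^ (2 - 1) = 2 from rfl, pow_two]; exact hrr⟩ }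
  obtain ⟨A, m, hA, hmax⟩ := exists_maximal ⟨Y, 2, hG⟩
  refine hA.false_of_layer (centralizer_le_of_maximal hA hmax) hab fun h => ?_
  obtain ⟨a, b, hnab⟩ := D.nc
  exact hnab (hA.comm a (h ▸ mem_top a) b (h ▸ mem_top b))

end Cfsg.Agent.Suz2Semi
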