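import Cfsg.Agent.Suz2Semi.Arith

/-!
Twisted-linear additive maps of a finite field of characteristic two, with respect to an element whose order has
index dividing the degree.
-/

set_option autoImplicit false

namespace Cfsg.Agent.Suz2Semi

open Polynomial Cfsg.Agent.Suzuki2

variable {F : Type*} [Field F] [Fintype F] [CharP F 2] {n : ℕ}

/-- An element of large order. -/
structure Gen (n : ℕ) (l : F) : Prop where
  card : Fintype.card F = 2 ^ n
  ne : l ≠ 0
  big : Big n (orderOf l)

variable {l : F}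

theorem Gen.pos (hl : Gen n l) : 0 < n := by have := hl.big.two_le; omega

theorem Gen.modEq (hl : Gen n l) {a b : ℕ} (h : l ^ a = l ^ b) : a ≡ b [MOD orderOf l] := by
  have h' : (Units.mk0 l hl.ne) ^ a = (Units.mk0 l hl.ne) ^ b := Units.ext (by simpa using h)
  rw [pow_eq_pow_iff_modEq, ← orderOf_units] at h'
  simpa using h'

theorem Gen.inj (hl : Gen n l) {i j : ℕ} (hi : i < n) (hj : j < n) (h : l ^ 2 ^ i = l ^ 2 ^ j) : i = j :=
  hl.big.inj hi hj (hl.modEq h)

theorem Gen.ne_one (hl : Gen n l) : l ≠ 1 := fun h => by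
  have := hl.inj (i := 0) (j := 1) hl.pos (by have := hl.big.two_le; omega) (by simp [h])
  omega

/-- The powers span. -/
theorem Gen.span (hl : Gen n l) (S : AddSubgroup F) (h1 : (1 : F) ∈ S) (hS : ∀ x ∈ S, l * x ∈ S) : S = ⊤ := by
  classical
  letI : Algebra (ZMod 2) F := ZMod.algebra F 2
  set A := Algebra.adjoin (ZMod 2) ({l} : Set F) with hA
  have hAS : ∀ x ∈ A, ∀ y ∈ S, x * y ∈ S := by
    intro x hx
    induction hx using Algebra.adjoin_induction with
    | mem z hz => rw [Set.mem_singleton_iff.1 hz]; exact hS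
    | algebraMap r =>
      intro y hy
      obtain rfl | rfl : r = 0 ∨ r = 1 := (by decide : ∀ s : ZMod 2, s = 0 ∨ s = 1) r
      · rw [map_zero, zero_mul]; exact S.zero_mem
      · rwa [map_one, one_mul]
    | add a b _ _ ha hb => intro y hy; rw [add_mul]; exact S.add_mem (ha y hy) (hb y hy)
    | mul a b _ _ ha hb => intro y hy; rw [mul_assoc]; exact ha _ (hb y hy)
  letI : Fintype A := Fintype.ofFinite _
  letI : Field A := Fintype.fieldOfDomain A
  haveI : CharP A 2 := (Algebra.charP_iff (ZMod 2) A 2).1 inferInstance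
  obtain ⟨⟨h, hh0⟩, -, hh⟩ := FiniteField.card A 2
  have hh' : Nat.card A = 2 ^ h := by rw [Nat.card_eq_fintype_card]; exact hh
  have hle : h ≤ n := by
    have := Nat.card_le_card_of_injective (Subtype.val : A → F) Subtype.val_injective
    rw [hh', Nat.card_eq_fintype_card, hl.card] at this
    exact (Nat.pow_le_pow_iff_right one_lt_two).1 this
  have hlA : l ∈ A := Algebra.subset_adjoin rfl
  have hfix : l ^ 2 ^ h = l := by
    have := congrArg Subtype.val (FiniteField.pow_card (K := A) ⟨l, hlA⟩)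
    rw [← Nat.card_eq_fintype_card, hh'] at this
    simpa using this
  have hhn : h = n := by
    by_contra hne
    have := hl.inj (i := h) (j := 0) (by omega) hl.pos (by rw [hfix, pow_zero, pow_one])
    omega
  refine eq_top_iff.2 fun x _ => ?_
  have hsurj : Function.Surjective (Subtype.val : A → F) :=
    ((Nat.bijective_iff_injective_and_card _).2 ⟨Subtype.val_injective, by
      rw [hh', hhn, Nat.card_eq_fintype_card, hl.card]⟩).2
  obtain ⟨⟨y, hy⟩, rfl⟩ := hsurj x
  simpa using hAS y hy 1 h1

/-- Eigenvectors of the twisted conjugation are monomials. -/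
theorem eigen_monomial (hl : Gen n l) {T : F →+ F} (hT : T ≠ 0) {μ : F} (h : ∀ e, l * T e = μ * T (l * e)) :
    ∃ i < n, (∀ e, T e = T 1 * e ^ 2 ^ i) ∧ T 1 ≠ 0 ∧ μ * l ^ 2 ^ i = l := by
  have hμ : μ ≠ 0 := fun h0 => hT (AddMonoidHom.ext fun e => by
    have := h e
    rw [h0, zero_mul] at this
    simpa [hl.ne] using this)
  set ν := l / μ with hν
  have hν1 : ∀ e, T (l * e) = ν * T e := fun e => by
    rw [hν, div_mul_eq_mul_div, h, mul_div_cancel_left₀ _ hμ]
  let S : AddSubgroup F :=
    { carrier := {x | ∀ e, T (x * e) * T 1 = T x * T e}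
      zero_mem' := fun e => by simp
      add_mem' := fun {a b} ha hb e => by rw [add_mul, map_add, map_add, add_mul, ha e, hb e, add_mul]
      neg_mem' := fun {a} ha e => by rw [neg_mul, map_neg, map_neg, neg_mul, ha e, neg_mul] }
  have hmul : ∀ x e, T (x * e) * T 1 = T x * T e := fun x => by
    have : S = ⊤ := hl.span S (fun e => by rw [one_mul, mul_comm]) (fun x hx e => by
      rw [mul_assoc, hν1, hν1, mul_assoc, hx e, mul_assoc])
    exact (this ▸ AddSubgroup.mem_top x : x ∈ S)
  have h1 : T 1 ≠ 0 := fun h0 => hT (AddMonoidHom.ext fun e => by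
    have := hmul e e
    rw [h0, mul_zero] at this
    exact mul_self_eq_zero.1 this.symm)
  let φ : F →+* F :=
    { toFun := fun x => T x / T 1
      map_one' := div_self h1
      map_zero' := by simp
      map_add' := fun x y => by rw [map_add, add_div]
      map_mul' := fun x y => by
        rw [div_mul_div_comm, ← hmul, mul_div_mul_right _ _ h1] }
  obtain ⟨i, hi, hφ⟩ := exists_pow_of_ringHom hl.card hl.pos φ
  have hTe : ∀ e, T e = T 1 * e ^ 2 ^ i := fun e => by
    rw [← hφ]
    show T e = T 1 * (T e / T 1)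
    rw [mul_div_cancel₀ _ h1]
  refine ⟨i, hi, hTe, h1, mul_left_cancel₀ h1 ?_⟩
  have := h 1
  rw [mul_one, hTe l] at this
  linear_combination -this

/-- Conjugate eigenvalues have equal exponents. -/
theorem exponent_eq_of_conj (hl : Gen n l) {μ μ' : F} {i i' j : ℕ} (hi : i < n)
    (hi0 : i ≠ 0) (hi' : i' < n) (hi'0 : i' ≠ 0) (hμ : μ * l ^ 2 ^ i = l) (hμ' : μ' * l ^ 2 ^ i' = l)
    (hj : μ ^ 2 ^ j = μ') : i = i' := by
  have e1 := congrArg (· ^ 2 ^ j) hμ
  simp only [mul_pow, hj, two_pow_mul] at e1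
  have e2 : l ^ (2 ^ j + 2 ^ i') = l ^ (1 + 2 ^ (i + j)) := by
    rw [pow_add, pow_add, pow_one, ← e1]
    linear_combination (l ^ 2 ^ (i + j)) * hμ'
  exact hl.big.conj_eq hi hi0 hi' hi'0 (hl.modEq e2)

theorem eigen_eq (hl : Gen n l) {T : F →+ F} {μ : F} (h : twist l T = μ • T) :
    ∀ e, l * T e = μ * T (l * e) := fun e => by
  have := congrArg (fun S : F →+ F => S (l * e)) h
  simpa [twist_apply, inv_mul_cancel_left₀ hl.ne] using this

/-- An irreducible equivariant family of additive maps consists of monomials of one exponent. -/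
theorem monomial_family (hq : Fintype.card F = 2 ^ n) (hn : 0 < n) (hl : Gen n l) {W : Type*} [AddCommGroup W]
    [Finite W] [Nontrivial W] (C : W →+ W) (h : W →+ (F →+ F)) (hinj : Function.Injective h)
    (heq : ∀ z e, h (C z) (l * e) = l * h z e) (hfix : ∀ z, C z = z → z = 0)
    (hirr : ∀ U : AddSubgroup W, (∀ u ∈ U, C u ∈ U) → U = ⊥ ∨ U = ⊤) :
    ∃ i μ, 0 < i ∧ i < n ∧ μ * l ^ 2 ^ i = l ∧ (∀ z e, h z e = h z 1 * e ^ 2 ^ i) ∧
      ∀ z, h (C z) 1 = μ * h z 1 := by
  classical
  set c := ZMod.castHom (dvd_refl 2) F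
  have hC : ∀ z, h (C z) = twist l (h z) := fun z => AddMonoidHom.ext fun e => by
    rw [twist_apply, ← heq, mul_inv_cancel_left₀ hl.ne]
  set τ : Module.End F (F →+ F) := twist l
  let φ : (ZMod 2)[X] →+* Module.End F (F →+ F) := (aeval τ).toRingHom.comp (mapRingHom c)
  -- invariant subgroup killed by the image of a polynomial
  let K : (ZMod 2)[X] → AddSubgroup W := fun g => (φ g).toAddMonoidHom.ker.comap h
  have hK : ∀ g, ∀ u ∈ K g, C u ∈ K g := by
    intro g u hu
    have hu' : φ g (h u) = 0 := hu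
    show φ g (h (C u)) = 0
    have hcomm : φ g * φ X = φ X * φ g := by rw [← map_mul, ← map_mul, mul_comm]
    have hX : φ X = τ := by simp [φ]
    rw [hX] at hcomm
    have := LinearMap.congr_fun hcomm (h u)
    simp only [Module.End.mul_apply] at this
    rw [hC, this, hu', map_zero]
  have hM : φ (X ^ (2 ^ n - 1) - 1) = 0 := by
    simp only [φ, RingHom.comp_apply, AlgHom.toRingHom_eq_coe, RingHom.coe_coe, coe_mapRingHom,
      Polynomial.map_sub, Polynomial.map_pow, map_X, Polynomial.map_one, map_sub, map_pow, aeval_X, map_one,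
      sub_eq_zero]
    have hit : ∀ (j : ℕ) (T : F →+ F) e, (τ ^ j) T e = l ^ j * T (l⁻¹ ^ j * e) := by
      intro j
      induction j with
      | zero => intro T e; simp
      | succ j ih =>
        intro T e
        rw [pow_succ, Module.End.mul_apply, ih, twist_apply, pow_succ, pow_succ, mul_assoc]
        congr 3
        ring
    refine LinearMap.ext fun T => AddMonoidHom.ext fun e => ?_
    rw [hit, ← hq, FiniteField.pow_card_sub_one_eq_one _ hl.ne,
      FiniteField.pow_card_sub_one_eq_one _ (inv_ne_zero hl.ne)]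
    simp
  -- an irreducible polynomial killing everything
  obtain ⟨g, hg, hgd, hgK⟩ : ∃ g, Irreducible g ∧ g ∣ (X ^ (2 ^ n - 1) - 1 : (ZMod 2)[X]) ∧ K g = ⊤ := by
    have hne : (X ^ (2 ^ n - 1) - 1 : (ZMod 2)[X]) ≠ 0 := by
      have : 2 ^ 1 ≤ 2 ^ n := Nat.pow_le_pow_right two_pos hn
      exact (monic_X_pow_sub_C (1 : ZMod 2) (by omega : 2 ^ n - 1 ≠ 0)).ne_zero
    have key : ∀ g : (ZMod 2)[X], g ≠ 0 → K g = ⊤ → ∃ f, Irreducible f ∧ f ∣ g ∧ K f = ⊤ := by
      intro g
      induction g using WfDvdMonoid.induction_on_irreducible with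
      | zero => exact fun h0 => absurd rfl h0
      | unit u hu =>
        intro _ htop
        obtain ⟨z, hz⟩ := exists_ne (0 : W)
        refine absurd (hinj ?_) hz
        rw [map_zero]
        have h1 : φ u (h z) = 0 := (htop ▸ AddSubgroup.mem_top z : z ∈ K u)
        obtain ⟨v, hv⟩ := hu.map φ
        have := congrArg ((↑v⁻¹ : Module.End F (F →+ F))) h1
        rwa [map_zero, ← Module.End.mul_apply, ← hv, Units.inv_mul, Module.End.one_apply] at this
      | mul a p ha hp ih =>
        intro hne htop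
        rcases hirr (K p) (hK p) with hb | ht
        · have : K a = ⊤ := by
            refine eq_top_iff.2 fun z _ => ?_
            have h1 : φ (p * a) (h z) = 0 := (htop ▸ AddSubgroup.mem_top z : z ∈ K (p * a))
            rw [mul_comm, map_mul, Module.End.mul_apply] at h1
            by_contra hza
            rcases hirr (K a) (hK a) with hab | hat
            · -- both kernels trivial: the product is injective
              apply hza
              have hzero : ∀ w, φ a (h w) = 0 → w = 0 := fun w hw => (AddSubgroup.mem_bot).1 (hab ▸ hw)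
              -- rewrite through commutation
              have hcl : ∀ q : (ZMod 2)[X], ∀ w : W, ∃ w' : W, h w' = φ q (h w) := by
                intro q
                induction q using Polynomial.induction_on' with
                | add q r hq' hr' =>
                  intro w
                  obtain ⟨w₁, h₁⟩ := hq' w
                  obtain ⟨w₂, h₂⟩ := hr' w
                  exact ⟨w₁ + w₂, by rw [map_add, h₁, h₂, map_add, LinearMap.add_apply]⟩
                | monomial k r =>
                  intro w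
                  have hmon : φ (monomial k r) (h w) = c r • (τ ^ k) (h w) := by
                    simp [φ, aeval_monomial, Module.algebraMap_end_apply]
                  have hk : ∃ w', h w' = (τ ^ k) (h w) := by
                    clear hmon
                    induction k with
                    | zero => exact ⟨w, by simp⟩
                    | succ k ihk =>
                      obtain ⟨w', hw'⟩ := ihk
                      exact ⟨C w', by rw [hC, hw', pow_succ', Module.End.mul_apply]⟩
                  obtain ⟨w', hw'⟩ := hk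
                  rw [hmon, ← hw']
                  obtain rfl | rfl : r = 0 ∨ r = 1 := (by decide : ∀ s : ZMod 2, s = 0 ∨ s = 1) r
                  · exact ⟨0, by simp⟩
                  · exact ⟨w', by simp⟩
              obtain ⟨w', hw'⟩ := hcl p z
              rw [← hw'] at h1
              have hw0 := hzero w' h1
              rw [hw0, map_zero] at hw'
              have : z ∈ K p := hw'.symm
              rw [hb, AddSubgroup.mem_bot] at this
              exact this ▸ (K a).zero_mem
            · exact hza (hat ▸ AddSubgroup.mem_top z)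
          obtain ⟨f, hf, hfd, hfK⟩ := ih (right_ne_zero_of_mul hne) this
          exact ⟨f, hf, hfd.mul_left p, hfK⟩
        · exact ⟨p, hp, dvd_mul_right p a, ht⟩
    exact key _ hne (eq_top_iff.2 fun z _ => by show φ _ (h z) = 0; rw [hM]; rfl)
  -- the roots of `g`
  set G := g.map c with hG
  have hGd : G ∣ (X ^ (2 ^ n - 1) - 1 : F[X]) := by
    have := Polynomial.map_dvd c hgd
    simpa using this
  have hG0 : G ≠ 0 := Polynomial.map_ne_zero hg.ne_zero
  have hXn : (X ^ 2 ^ n - X : F[X]) = X * (X ^ (2 ^ n - 1) - 1) := by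
    rw [mul_sub, mul_one, ← pow_succ', Nat.sub_add_cancel Nat.one_le_two_pow]
  have hsplit : G.Splits := by
    refine Polynomial.Splits.of_dvd (?_ : (X ^ 2 ^ n - X : F[X]).Splits) ?_ ?_
    · rw [Polynomial.splits_iff_card_roots, ← hq, FiniteField.roots_X_pow_card_sub_X,
        FiniteField.X_pow_card_sub_X_natDegree_eq _ Fintype.one_lt_card]
      simp
    · rw [← hq]; exact FiniteField.X_pow_card_sub_X_ne_zero _ Fintype.one_lt_card
    · exact hXn ▸ dvd_mul_of_dvd_right hGd X
  have hnd : G.roots.Nodup := by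
    refine Multiset.nodup_of_le (Polynomial.roots.le_of_dvd ?_ (hXn ▸ dvd_mul_of_dvd_right hGd X : G ∣ X ^ 2 ^ n - X)) ?_
    · rw [← hq]; exact FiniteField.X_pow_card_sub_X_ne_zero _ Fintype.one_lt_card
    · rw [← hq, FiniteField.roots_X_pow_card_sub_X]; exact Finset.nodup _
  -- eigenvalue possible
  set Pos : F → Prop := fun μ => ∃ T : F →+ F, T ≠ 0 ∧ τ T = μ • T
  have hP1 : ∀ μ, Pos μ → μ ≠ 1 → ∃ i, 0 < i ∧ i < n ∧ μ * l ^ 2 ^ i = l := by
    rintro μ ⟨T, hT, hTe⟩ hμ
    obtain ⟨i, hi, -, -, hμi⟩ := eigen_monomial hl hT (eigen_eq hl hTe)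
    refine ⟨i, Nat.pos_of_ne_zero fun h0 => hμ ?_, hi, hμi⟩
    rw [h0, pow_zero, pow_one] at hμi
    exact (mul_eq_right₀ hl.ne).1 hμi
  have hkill : ∀ z, aeval τ G (h z) = 0 := fun z => (hgK ▸ AddSubgroup.mem_top z : z ∈ K g)
  have hroot1 : ∀ μ ∈ G.roots, Pos μ → μ ≠ 1 := by
    intro μ hμ _ h1
    subst h1
    obtain ⟨z, hz⟩ := exists_ne (0 : W)
    -- `g` has the root one, hence equals `X - 1` up to a unit and fixes the family
    have hr : g.IsRoot 1 := by
      have h := (mem_roots hG0).1 hμ
      rw [hG, IsRoot.def, ← map_one c, eval_map_apply] at h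
      exact (map_eq_zero c).1 h
    obtain ⟨u, hu⟩ := (irreducible_X_sub_C (1 : ZMod 2)).associated_of_dvd hg (dvd_iff_isRoot.2 hr)
    refine hz (hfix z (hinj ?_))
    rw [hC, ← sub_eq_zero]
    have h1 : φ g (h z) = 0 := hkill z
    rw [← hu, mul_comm, map_mul, Module.End.mul_apply] at h1
    obtain ⟨v, hv⟩ := u.isUnit.map φ
    have := congrArg ((↑v⁻¹ : Module.End F (F →+ F))) h1
    rw [map_zero, ← Module.End.mul_apply, ← hv, Units.inv_mul, Module.End.one_apply] at this
    simpa [φ] using this
  have hprod : ∀ z, (G.roots.toList.map fun r => τ - algebraMap F _ r).prod (h z) = 0 := by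
    intro z
    have hprodeq : G = Polynomial.C G.leadingCoeff * (G.roots.toList.map fun r => X - Polynomial.C r).prod := by
      conv_lhs => rw [hsplit.eq_prod_roots]
      rw [← Multiset.prod_coe, ← Multiset.map_coe, Multiset.coe_toList]
    have h1 := hkill z
    rw [hprodeq, map_mul, aeval_C, Module.End.mul_apply, Module.algebraMap_end_apply,
      smul_eq_zero_iff_right (leadingCoeff_ne_zero.2 hG0), map_list_prod, List.map_map] at h1
    simpa [Function.comp_def] using h1
  -- linear factors with impossible eigenvalue are injective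
  have hinjf : ∀ (L : List F), (∀ r ∈ L, ¬ Pos r) → ∀ T, (L.map fun r => τ - algebraMap F _ r).prod T = 0 → T = 0 := by
    intro L
    induction L with
    | nil => intro _ T hT; simpa using hT
    | cons r L ih =>
      intro hL T hT
      rw [List.map_cons, List.prod_cons, Module.End.mul_apply] at hT
      refine ih (fun s hs => hL s (List.mem_cons_of_mem _ hs)) T ?_
      by_contra h0
      refine hL r List.mem_cons_self ⟨_, h0, ?_⟩
      rwa [LinearMap.sub_apply, Module.algebraMap_end_apply, sub_eq_zero] at hT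
  obtain ⟨z₀, hz₀⟩ := exists_ne (0 : W)
  obtain ⟨μ, hμ, hμP⟩ : ∃ μ ∈ G.roots, Pos μ := by
    by_contra hno
    push Not at hno
    exact hz₀ (hinj (by rw [map_zero]; exact hinjf _ (fun r hr => hno r (Multiset.mem_toList.1 hr)) _ (hprod z₀)))
  obtain ⟨i, hi0, hi, hμi⟩ := hP1 μ hμP (hroot1 μ hμ hμP)
  have huniq : ∀ r ∈ G.roots, Pos r → r = μ := by
    intro r hr hrP
    obtain ⟨i', hi'0, hi', hri⟩ := hP1 r hrP (hroot1 r hr hrP)
    obtain ⟨j, hj⟩ := exists_conj_of_roots g hg ((mem_roots hG0).1 hμ) ((mem_roots hG0).1 hr)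
    have := exponent_eq_of_conj hl hi hi0.ne' hi' hi'0.ne' hμi hri hj
    subst this
    exact mul_right_cancel₀ (pow_ne_zero _ hl.ne) (hri.trans hμi.symm)
  have heig : ∀ z, τ (h z) = μ • h z := by
    intro z
    have h1 := hprod z
    have hperm : (G.roots.toList.map fun r => τ - algebraMap F _ r).prod =
        ((G.roots.erase μ).toList.map fun r => τ - algebraMap F _ r).prod * (τ - algebraMap F _ μ) := by
      have hcm : ∀ L : List F, (L.map fun r => τ - algebraMap F _ r).prod =
          aeval τ (L.map fun r => X - Polynomial.C r).prod := fun L => by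
        rw [map_list_prod, List.map_map]; simp [Function.comp_def]
      rw [hcm, hcm, show τ - algebraMap F _ μ = aeval τ (X - Polynomial.C μ) by simp, ← map_mul]
      congr 1
      rw [← Multiset.prod_coe, ← Multiset.map_coe, Multiset.coe_toList, ← Multiset.prod_coe, ← Multiset.map_coe,
        Multiset.coe_toList, mul_comm, ← Multiset.prod_cons, ← Multiset.map_cons (fun r => X - Polynomial.C r),
        Multiset.cons_erase hμ]
    rw [hperm, Module.End.mul_apply] at h1
    have h2 := hinjf _ (fun r hr => fun hp => by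
      have hr' := Multiset.mem_toList.1 hr
      have := huniq r (Multiset.mem_of_mem_erase hr') hp
      subst this
      exact hnd.notMem_erase hr') _ h1
    rwa [LinearMap.sub_apply, Module.algebraMap_end_apply, sub_eq_zero] at h2
  refine ⟨i, μ, hi0, hi, hμi, fun z e => ?_, fun z => by rw [hC, heig]; rfl⟩
  by_cases hz : h z = 0
  · simp [hz]
  obtain ⟨i', hi', hmon, -, hμi'⟩ := eigen_monomial hl hz (eigen_eq hl (heig z))
  have hμ0 : μ ≠ 0 := fun h0 => hl.ne (by rw [← hμi, h0, zero_mul])
  have h3 : l ^ 2 ^ i = l ^ 2 ^ i' := mul_left_cancel₀ hμ0 (hμi.trans hμi'.symm)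
  rw [hl.inj hi hi' h3]
  exact hmon e

/-- Sections over a monomial family are rigid, except possibly for `n = 6`. -/
theorem section_rigid (hl : Gen n l) {W : Type*} [AddCommGroup W] (C : W → W)
    {i : ℕ} {μ : F} (hi0 : 0 < i) (hi : i < n) (hμ : μ * l ^ 2 ^ i = l) (f : W →+ F) (hf : Function.Injective f)
    (hfC : ∀ z, f (C z) = μ * f z) (L : W →+ F) (hL : ∀ z, f z * L z ^ 2 ^ i = L z) (hne : L ≠ 0) :
    (∀ z, L z = f z ^ 2) ∨ n = 6 ∧ orderOf l = 21 ∧ (i = 2 ∨ i = 3) ∧
      ∃ K β : F, K ≠ 0 ∧ (i = 2 → K = β ^ 3) ∧ ∀ z, z ≠ 0 → f z ^ (2 * 2 ^ i - 1) = K := by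
  have hn : 0 < n := by omega
  have hadd : ∀ z z', f z * L z' ^ 2 ^ i = f z' * L z ^ 2 ^ i := by
    intro z z'
    have := hL (z + z')
    rw [map_add, map_add, add_pow_char_pow] at this
    have h2 : f z * L z' ^ 2 ^ i + f z' * L z ^ 2 ^ i = 0 := by linear_combination this - hL z - hL z'
    exact CharTwo.add_eq_zero.1 h2
  have hf0 : ∀ {z}, z ≠ 0 → f z ≠ 0 := fun hz h => hz (hf (h.trans (map_zero f).symm))
  have hinj : ∀ z, L z = 0 → z = 0 := by
    intro z hz
    by_contra hz0
    refine hne (AddMonoidHom.ext fun z' => ?_)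
    have := hadd z z'
    rw [hz, zero_pow (by positivity), mul_zero] at this
    simpa [hf0 hz0] using this
  obtain ⟨z₀, hz₀⟩ : ∃ z : W, z ≠ 0 := by
    by_contra hall
    push Not at hall
    exact hne (AddMonoidHom.ext fun z => by simp [hall z])
  have key : i + 1 = n ∨ n = 6 ∧ orderOf l = 21 ∧ (i = 2 ∨ i = 3) := by
    have hf0' := hf0 hz₀
    have hL0 : L z₀ ≠ 0 := fun h => hz₀ (hinj z₀ h)
    set u := L (C z₀) / L z₀ with hu
    have h1 := hadd z₀ (C z₀)
    rw [hfC] at h1
    have hu1 : u ^ 2 ^ i = μ := by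
      rw [hu, div_pow, div_eq_iff (pow_ne_zero _ hL0)]
      exact mul_left_cancel₀ hf0' (by linear_combination h1)
    have h2 := hL (C z₀)
    rw [hfC] at h2
    have hu2 : μ * μ = u := by
      rw [hu, eq_div_iff hL0]
      conv_rhs => rw [← h2]
      conv_lhs => rw [← hL z₀]
      have : L (C z₀) ^ 2 ^ i = μ * L z₀ ^ 2 ^ i := by
        rw [← hu1, hu, div_pow, div_mul_cancel₀ _ (pow_ne_zero _ hL0)]
      rw [this]; ring
    have h3 : (μ * μ) ^ 2 ^ i = μ := by rw [hu2, hu1]
    have e1 : l ^ (2 ^ (i + 1) + 2 ^ i) = l ^ (1 + 2 ^ (i + i + 1)) := by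
      have hl2 : l ^ 2 ^ (i + 1) = (μ * μ) ^ 2 ^ i * l ^ 2 ^ (i + i + 1) := by
        conv_lhs => rw [← hμ]
        rw [mul_pow, two_pow_mul, pow_succ' 2 i, pow_mul, pow_two, show i + (i + 1) = i + i + 1 by ring]
      rw [pow_add l (2 ^ (i + 1)), pow_add l 1, pow_one, hl2, h3]
      linear_combination (l ^ 2 ^ (i + i + 1)) * hμ
    exact hl.big.rigid_eq hi hi0.ne' (hl.modEq e1)
  rcases key with hin | hsix
  · refine Or.inl fun z => ?_
    by_cases hz : z = 0
    · simp [hz]
    have hL0 : L z ≠ 0 := fun h => hz (hinj z h)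
    have h1 := congrArg (· ^ 2) (hL z)
    simp only [mul_pow, ← pow_mul] at h1
    rw [← pow_succ, hin, ← hl.card, FiniteField.pow_card] at h1
    exact mul_right_cancel₀ hL0 (by rw [h1, pow_two])
  refine Or.inr ?_
  obtain ⟨hn6, hd, hi23⟩ := hsix
  -- `L ^ (2 ^ i) = γ f` on everything
  set γ := L z₀ ^ 2 ^ i / f z₀ with hγ
  have hLz : ∀ z, L z = γ * f z * f z := fun z => by
    have h1 : L z ^ 2 ^ i = γ * f z := by
      rw [hγ, div_mul_eq_mul_div, eq_div_iff (hf0 hz₀)]
      linear_combination hadd z₀ z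
    rw [← hL z, h1]; ring
  have hK : ∀ z, z ≠ 0 → γ ^ 2 ^ i * f z ^ (2 * 2 ^ i - 1) = γ := by
    intro z hz
    have h1 : L z ^ 2 ^ i = γ * f z := by
      rw [hγ, div_mul_eq_mul_div, eq_div_iff (hf0 hz₀)]
      linear_combination hadd z₀ z
    rw [hLz z, mul_pow, mul_pow, mul_assoc, ← pow_add, ← two_mul] at h1
    refine mul_right_cancel₀ (hf0 hz) ?_
    rw [mul_assoc, ← pow_succ, Nat.sub_add_cancel (by have := Nat.two_pow_pos i; omega), h1]
  have hγ0 : γ ≠ 0 := div_ne_zero (pow_ne_zero _ fun h => hz₀ (hinj _ h)) (hf0 hz₀)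
  refine ⟨hn6, hd, hi23, γ / γ ^ 2 ^ i, γ⁻¹, div_ne_zero hγ0 (pow_ne_zero _ hγ0), fun hi2 => ?_, fun z hz => ?_⟩
  · rw [hi2, inv_pow]; field_simp; norm_num
  · rw [eq_div_iff (pow_ne_zero _ hγ0), mul_comm]; exact hK z hz

end Cfsg.Agent.Suz2Semi
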