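import Cfsg.Agent.Suz2Semi.FieldLemmas
import Cfsg.Agent.RankOne.SuzukiCenter

/-!
An automorphism acting on the involutions as multiplication by an element of large order of a field.
-/

set_option autoImplicit false

namespace Cfsg.Agent.Suz2Semi

open Subgroup
open scoped commutatorElement

universe u

variable {P : Type u} [Group P]

/-- A subgroup stable under an automorphism. -/
def KInv (k : MulAut P) (H : Subgroup P) : Prop := ∀ x ∈ H, k x ∈ H

/-- The involutions carry a field structure in which `k` is multiplication by `ω`. -/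
structure Fld (k : MulAut P) (F : Type) [Field F] [Fintype F] [CharP F 2] (n : ℕ) (L : P → F) (ω : F) :
    Prop where
  central : ∀ x : P, x * x = 1 → x ∈ center P
  mul : ∀ a b : P, a * a = 1 → b * b = 1 → L (a * b) = L a + L b
  equiv : ∀ a : P, a * a = 1 → L (k a) = ω * L a
  inj : ∀ a : P, a * a = 1 → L a = 0 → a = 1
  surj : ∀ x : F, ∃ a : P, a * a = 1 ∧ L a = x
  gen : Gen n ω

variable {k : MulAut P} {F : Type} [Field F] [Fintype F] [CharP F 2] {n : ℕ} {L : P → F} {ω : F}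

theorem Fld.one (h : Fld k F n L ω) : L 1 = 0 := by
  have := h.mul 1 1 (one_mul 1) (one_mul 1)
  rwa [mul_one, left_eq_add] at this

theorem Fld.mul_inv (h : Fld k F n L ω) {a b : P} (ha : a * a = 1) (hb : b * b = 1) : a * b * (a * b) = 1 := by
  have hc : Commute a b := mem_center_iff.1 (h.central b hb) a
  rw [hc.symm.mul_mul_mul_comm, ha, hb, one_mul]

theorem Fld.eq (h : Fld k F n L ω) {a b : P} (ha : a * a = 1) (hb : b * b = 1) (he : L a = L b) : a = b := by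
  have := h.inj (a * b) (h.mul_inv ha hb) (by rw [h.mul a b ha hb, he, CharTwo.add_self_eq_zero])
  rw [mul_eq_one_iff_eq_inv] at this
  exact this.trans (inv_eq_of_mul_eq_one_right hb)

theorem Fld.k_inv {a : P} (ha : a * a = 1) : k a * k a = 1 := by rw [← map_mul, ha, map_one]

theorem Fld.iterate (h : Fld k F n L ω) {a : P} (ha : a * a = 1) (j : ℕ) :
    (k ^ j) a * (k ^ j) a = 1 ∧ L ((k ^ j) a) = ω ^ j * L a := by
  induction j with
  | zero => exact ⟨ha, by simp⟩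
  | succ j ih =>
    rw [pow_succ', MulAut.mul_apply]
    exact ⟨Fld.k_inv ih.1, by rw [h.equiv _ ih.1, ih.2, pow_succ', mul_assoc]⟩

theorem Fld.fpf [Finite P] (h : Fld k F n L ω) (h2 : IsPGroup 2 P) {x : P} (hx : k x = x) : x = 1 := by
  classical
  obtain ⟨m, hm⟩ := h2 x
  induction m generalizing x with
  | zero => simpa using hm
  | succ m ih =>
    have h1 : x * x = 1 := ih (x := x * x) (by rw [map_mul, hx]) (by rw [← pow_two, ← pow_mul, ← pow_succ', hm])
    have h3 := h.equiv x h1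
    rw [hx] at h3
    refine h.inj x h1 ?_
    by_contra hne
    exact h.gen.ne_one (mul_right_cancel₀ hne ((one_mul _).trans h3).symm)

theorem Fld.exists_twisted [Finite P] (h : Fld k F n L ω) (h2 : IsPGroup 2 P) {H : Subgroup P} (hH : KInv k H)
    {w : P} (hw : w ∈ H) : ∃ v ∈ H, k v * v⁻¹ = w := by
  obtain ⟨⟨v, hv⟩, hvw⟩ := (Finite.injective_iff_surjective
    (f := fun v : H => (⟨k v * (v : P)⁻¹, H.mul_mem (hH v v.2) (H.inv_mem v.2)⟩ : H))).1
    (fun a b e => by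
      have h' : k a * (a : P)⁻¹ = k b * (b : P)⁻¹ := congrArg Subtype.val e
      refine Subtype.ext (eq_of_inv_mul_eq_one (h.fpf h2 ?_) : (a : P) = b)
      rw [map_mul, map_inv]
      have e1 : k a = k b * (b : P)⁻¹ * a := by rw [← h', inv_mul_cancel_right]
      rw [e1]; group) ⟨w, hw⟩
  exact ⟨v, hv, congrArg Subtype.val hvw⟩

/-- An invariant homomorphism on an invariant subgroup is trivial. -/
theorem Fld.eq_zero_of_invariant [Finite P] (h : Fld k F n L ω) (h2 : IsPGroup 2 P) {H : Subgroup P}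
    (hH : KInv k H) {M : Type*} [AddCommGroup M] (φ : P → M) (hmul : ∀ a ∈ H, ∀ b ∈ H, φ (a * b) = φ a + φ b)
    (hinv : ∀ a ∈ H, φ (k a) = φ a) {w : P} (hw : w ∈ H) : φ w = 0 := by
  obtain ⟨v, hv, rfl⟩ := h.exists_twisted h2 hH hw
  have h1 := hmul _ (H.mul_mem (hH v hv) (H.inv_mem hv)) _ hv
  rw [inv_mul_cancel_right, hinv v hv] at h1
  exact (add_eq_right.1 h1.symm)

/-- A nontrivial equivariant homomorphism into the involutions is onto them. -/
theorem Fld.surj_of (h : Fld k F n L ω) (H : Subgroup P) (hH : KInv k H) (φ : P → P)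
    (hφ : ∀ z ∈ H, φ z * φ z = 1) (hmul : ∀ z ∈ H, ∀ z' ∈ H, φ (z * z') = φ z * φ z')
    (hk : ∀ z ∈ H, φ (k z) = k (φ z)) (hne : ∃ z ∈ H, φ z ≠ 1) :
    ∀ e : P, e * e = 1 → ∃ z ∈ H, φ z = e := by
  obtain ⟨z₀, hz₀, hz₀1⟩ := hne
  have hx₀ : L (φ z₀) ≠ 0 := fun e => hz₀1 (h.inj _ (hφ z₀ hz₀) e)
  let S : AddSubgroup F :=
    { carrier := {x | ∃ z ∈ H, L (φ z) = x * L (φ z₀)}
      zero_mem' := ⟨1, H.one_mem, by
        have := hmul 1 H.one_mem 1 H.one_mem
        rw [mul_one, left_eq_mul] at this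
        rw [this, h.one, zero_mul]⟩
      add_mem' := by
        rintro a b ⟨z, hz, ha⟩ ⟨z', hz', hb⟩
        exact ⟨z * z', H.mul_mem hz hz', by rw [hmul z hz z' hz', h.mul _ _ (hφ z hz) (hφ z' hz'), ha, hb, add_mul]⟩
      neg_mem' := by
        rintro a ha
        rwa [CharTwo.neg_eq] }
  have hS : S = ⊤ := h.gen.span S ⟨z₀, hz₀, (one_mul _).symm⟩ (by
    rintro x ⟨z, hz, hx⟩
    exact ⟨k z, hH z hz, by rw [hk z hz, h.equiv _ (hφ z hz), hx, mul_assoc]⟩)
  intro e he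
  obtain ⟨z, hz, hze⟩ := (hS ▸ AddSubgroup.mem_top (L e / L (φ z₀)) : L e / L (φ z₀) ∈ S)
  exact ⟨z, hz, h.eq (hφ z hz) he (by rw [hze, div_mul_cancel₀ _ hx₀])⟩

/-- An equivariant alternating biadditive map on the involutions is trivial. -/
theorem Fld.alt_trivial (h : Fld k F n L ω) (f : P → P → P)
    (hf : ∀ x y, x * x = 1 → y * y = 1 → f x y * f x y = 1)
    (hl : ∀ x x' y, x * x = 1 → x' * x' = 1 → y * y = 1 → f (x * x') y = f x y * f x' y)
    (hr : ∀ x y y', x * x = 1 → y * y = 1 → y' * y' = 1 → f x (y * y') = f x y * f x y')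
    (halt : ∀ x, x * x = 1 → f x x = 1)
    (heq : ∀ x y, x * x = 1 → y * y = 1 → f (k x) (k y) = k (f x y))
    {x y : P} (hx : x * x = 1) (hy : y * y = 1) : f x y = 1 := by
  classical
  choose r hr2 hrL using h.surj
  have hradd : ∀ a b, r (a + b) = r a * r b := fun a b =>
    h.eq (hr2 _) (h.mul_inv (hr2 a) (hr2 b)) (by rw [h.mul _ _ (hr2 a) (hr2 b), hrL, hrL, hrL])
  let B : F →+ F →+ F := AddMonoidHom.mk'
    (fun a => AddMonoidHom.mk' (fun b => L (f (r a) (r b))) fun b b' => by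
      rw [hradd, hr _ _ _ (hr2 a) (hr2 b) (hr2 b'), h.mul _ _ (hf _ _ (hr2 a) (hr2 b)) (hf _ _ (hr2 a) (hr2 b'))])
    fun a a' => AddMonoidHom.ext fun b => by
      show L (f (r (a + a')) (r b)) = L (f (r a) (r b)) + L (f (r a') (r b))
      rw [hradd, hl _ _ _ (hr2 a) (hr2 a') (hr2 b), h.mul _ _ (hf _ _ (hr2 a) (hr2 b)) (hf _ _ (hr2 a') (hr2 b))]
  have hrk : ∀ a, r (ω * a) = k (r a) := fun a =>
    h.eq (hr2 _) (Fld.k_inv (hr2 a)) (by rw [hrL, h.equiv _ (hr2 a), hrL])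
  have hB : ∀ a b, B (ω * a) (ω * b) = ω * B a b := fun a b => by
    show L (f (r (ω * a)) (r (ω * b))) = ω * L (f (r a) (r b))
    rw [hrk, hrk, heq _ _ (hr2 a) (hr2 b), h.equiv _ (hf _ _ (hr2 a) (hr2 b))]
  have halt' : ∀ a, B a a = 0 := fun a => by
    show L (f (r a) (r a)) = 0
    rw [halt _ (hr2 a), h.one]
  have hfxy : L (f x y) = B (L x) (L y) := by
    show _ = L (f (r (L x)) (r (L y)))
    rw [h.eq (hr2 _) hx (hrL _), h.eq (hr2 _) hy (hrL _)]
  refine h.inj _ (hf x y hx hy) ?_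
  rw [hfxy]
  -- the kernel of `B` is invariant, hence trivial or everything
  by_contra hne
  have hker : Function.Injective B := (injective_iff_map_eq_zero B).2 fun a ha => by
    by_contra ha0
    let S : AddSubgroup F := B.ker.comap (AddMonoidHom.mulRight a)
    have hS : S = ⊤ := h.gen.span S (by show B (1 * a) = 0; rw [one_mul, ha]) (fun t ht => by
      have ht' : B (t * a) = 0 := ht
      show B (ω * t * a) = 0
      refine AddMonoidHom.ext fun b => ?_
      rw [mul_assoc, show b = ω * (ω⁻¹ * b) by rw [mul_inv_cancel_left₀ h.gen.ne], hB, ht']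
      simp)
    have h1 : B (L x / a * a) = 0 := (hS ▸ AddSubgroup.mem_top (L x / a) : L x / a ∈ S)
    rw [div_mul_cancel₀ _ ha0] at h1
    exact hne (by rw [h1]; rfl)
  let C : F →+ F := AddMonoidHom.mulLeft ω
  obtain ⟨i, μ, hi0, hi, hμ, hmon, hμC⟩ := monomial_family h.gen.card h.gen.pos h.gen C B hker
    (fun a b => hB a b)
    (fun a ha => by
      by_contra ha0
      exact h.gen.ne_one (mul_right_cancel₀ ha0 (show ω * a = 1 * a by rw [one_mul]; exact ha)))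
    (fun U hU => by
      rcases eq_or_ne U ⊥ with hb | hb
      · exact Or.inl hb
      obtain ⟨⟨u, hu⟩, hu0⟩ := (AddSubgroup.ne_bot_iff_exists_ne_zero).1 hb
      have hu' : u ≠ 0 := fun e => hu0 (Subtype.ext e)
      have hS : U.comap (AddMonoidHom.mulRight u) = ⊤ := h.gen.span _ (by simpa using hu)
        (fun t ht => by simpa [C, mul_assoc] using hU (t * u) ht)
      exact Or.inr (eq_top_iff.2 fun t _ => by
        have h1 : t / u * u ∈ U := (hS ▸ AddSubgroup.mem_top (t / u) : t / u ∈ U.comap (AddMonoidHom.mulRight u))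
        rwa [div_mul_cancel₀ _ hu'] at h1))
  have hzero : ∀ a, B a 1 = 0 := fun a => by
    by_cases ha : a = 0
    · subst ha; simp
    · have := halt' a
      rw [hmon a a, mul_eq_zero] at this
      exact this.resolve_right (pow_ne_zero _ ha)
  exact hne (by rw [hmon, hzero, zero_mul])

/-- Pulling the previous lemma back along a homomorphism into the involutions. -/
theorem Fld.pullback_trivial (h : Fld k F n L ω) (S : Subgroup P) (φ : P → P) (g : P → P → P)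
    (hSρ : ∀ y ∈ S, k y ∈ S) (hφ : ∀ y ∈ S, φ y * φ y = 1)
    (hφmul : ∀ y ∈ S, ∀ y' ∈ S, φ (y * y') = φ y * φ y')
    (hφρ : ∀ y ∈ S, φ (k y) = k (φ y)) (hne : ∃ y ∈ S, φ y ≠ 1)
    (hg : ∀ y ∈ S, ∀ w ∈ S, g y w * g y w = 1)
    (hgl : ∀ y ∈ S, ∀ y' ∈ S, ∀ w ∈ S, g (y * y') w = g y w * g y' w)
    (hgr : ∀ y ∈ S, ∀ w ∈ S, ∀ w' ∈ S, g y (w * w') = g y w * g y w')
    (hgalt : ∀ y ∈ S, g y y = 1)
    (hgρ : ∀ y ∈ S, ∀ w ∈ S, g (k y) (k w) = k (g y w))
    (hkl : ∀ y ∈ S, ∀ w ∈ S, φ y = 1 → g y w = 1) (hkr : ∀ y ∈ S, ∀ w ∈ S, φ w = 1 → g y w = 1) :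
    (∀ x : P, x * x = 1 → ∃ y ∈ S, φ y = x) ∧ ∀ y ∈ S, ∀ w ∈ S, g y w = 1 := by
  classical
  have hsurj := h.surj_of S hSρ φ hφ hφmul hφρ hne
  refine ⟨hsurj, ?_⟩
  let sec : P → P := fun x => if hx : x * x = 1 then (hsurj x hx).choose else 1
  have hsec : ∀ x, x * x = 1 → sec x ∈ S ∧ φ (sec x) = x := fun x hx => by
    simp only [sec, dif_pos hx]
    exact (hsurj x hx).choose_spec
  have hker : ∀ y ∈ S, ∀ y' ∈ S, φ y = φ y' → φ (y'⁻¹ * y) = 1 := by
    intro y hy y' hy' e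
    have h1 := hφmul y' hy' (y'⁻¹ * y) (S.mul_mem (S.inv_mem hy') hy)
    rwa [mul_inv_cancel_left, e, left_eq_mul] at h1
  have hwd : ∀ y ∈ S, ∀ w ∈ S, g y w = g (sec (φ y)) (sec (φ w)) := by
    intro y hy w hw
    obtain ⟨hy', ey⟩ := hsec _ (hφ y hy)
    obtain ⟨hw', ew⟩ := hsec _ (hφ w hw)
    calc g y w = g (sec (φ y) * ((sec (φ y))⁻¹ * y)) w := by rw [mul_inv_cancel_left]
      _ = g (sec (φ y)) w := by
          rw [hgl _ hy' _ (S.mul_mem (S.inv_mem hy') hy) _ hw,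
            hkl _ (S.mul_mem (S.inv_mem hy') hy) _ hw (hker _ hy _ hy' ey.symm), mul_one]
      _ = g (sec (φ y)) (sec (φ w) * ((sec (φ w))⁻¹ * w)) := by rw [mul_inv_cancel_left]
      _ = g (sec (φ y)) (sec (φ w)) := by
          rw [hgr _ hy' _ hw' _ (S.mul_mem (S.inv_mem hw') hw),
            hkr _ hy' _ (S.mul_mem (S.inv_mem hw') hw) (hker _ hw _ hw' ew.symm), mul_one]
  intro y hy w hw
  rw [hwd y hy w hw]
  refine h.alt_trivial (fun x x' => g (sec x) (sec x')) ?_ ?_ ?_ ?_ ?_ (hφ y hy) (hφ w hw)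
  · exact fun x x' hx hx' => hg _ (hsec x hx).1 _ (hsec x' hx').1
  · intro x x' z hx hx' hz
    obtain ⟨h1, e1⟩ := hsec x hx
    obtain ⟨h2, e2⟩ := hsec x' hx'
    obtain ⟨h3, e3⟩ := hsec z hz
    have e := hwd _ (S.mul_mem h1 h2) _ h3
    rw [hφmul _ h1 _ h2, e1, e2, e3, hgl _ h1 _ h2 _ h3] at e
    exact e.symm
  · intro x z z' hx hz hz'
    obtain ⟨h1, e1⟩ := hsec x hx
    obtain ⟨h2, e2⟩ := hsec z hz
    obtain ⟨h3, e3⟩ := hsec z' hz'
    have e := hwd _ h1 _ (S.mul_mem h2 h3)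
    rw [hφmul _ h2 _ h3, e1, e2, e3, hgr _ h1 _ h2 _ h3] at e
    exact e.symm
  · exact fun x hx => hgalt _ (hsec x hx).1
  · intro x z hx hz
    obtain ⟨h1, e1⟩ := hsec x hx
    obtain ⟨h2, e2⟩ := hsec z hz
    have e := hwd _ (hSρ _ h1) _ (hSρ _ h2)
    rw [hφρ _ h1, hφρ _ h2, e1, e2, hgρ _ h1 _ h2] at e
    exact e.symm

end Cfsg.Agent.Suz2Semi
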